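import Mathlib

/-!
# Canonical lifts of a class of involutions in a central extension of prime exponent (owner: helper21)

`A` is a lift of the involution `a` squaring to one. When the extension centralises `A` over the centraliser of
`a`, the conjugates of `A` form a section over the class, compatible with conjugation.
-/

set_option autoImplicit false
set_option linter.unusedSectionVars false

namespace CfsgLib.Sporadic.ThMult

variable {Γ G : Type*} [Group Γ] [Group G]

/-- The conjugates of a fixed element. -/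
def Can (A : Γ) : Set Γ := {x | ∃ g, x = g * A * g⁻¹}

theorem can_self (A : Γ) : A ∈ Can A := ⟨1, by group⟩

theorem can_conj {A x : Γ} (h : x ∈ Can A) (g : Γ) : g * x * g⁻¹ ∈ Can A := by
  obtain ⟨k, rfl⟩ := h
  exact ⟨g * k, by group⟩

theorem can_sq {A x : Γ} (hA : A * A = 1) (h : x ∈ Can A) : x * x = 1 := by
  obtain ⟨g, rfl⟩ := h
  calc g * A * g⁻¹ * (g * A * g⁻¹) = g * (A * A) * g⁻¹ := by group
    _ = 1 := by rw [hA]; group

theorem can_inv {A x : Γ} (hA : A * A = 1) (h : x ∈ Can A) : x⁻¹ = x :=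
  inv_eq_of_mul_eq_one_right (can_sq hA h)

/-- A central extension whose kernel has prime exponent. -/
structure Ext (σ : Γ →* G) (p : ℕ) : Prop where
  surj : Function.Surjective σ
  cent : σ.ker ≤ Subgroup.center Γ
  prime : p.Prime
  exp : ∀ c ∈ σ.ker, c ^ p = 1

namespace Ext

variable {σ : Γ →* G} {p : ℕ} (E : Ext σ p)
include E

theorem comm {w : Γ} (h : σ w = 1) (g : Γ) : Commute g w := Subgroup.mem_center_iff.1 (E.cent h) g

theorem diff {x y : Γ} (h : σ x = σ y) : ∃ w, σ w = 1 ∧ x = y * w :=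
  ⟨y⁻¹ * x, by rw [map_mul, map_inv, h, inv_mul_cancel], by group⟩

/-- Kernel elements killed by a number prime to the exponent are trivial. -/
theorem triv {w : Γ} (h : σ w = 1) {n : ℕ} (hn : w ^ n = 1) (hco : Nat.Coprime n p) : w = 1 :=
  orderOf_eq_one_iff.1 (Nat.eq_one_of_dvd_coprimes hco (orderOf_dvd_of_pow_eq_one hn)
    (orderOf_dvd_of_pow_eq_one (E.exp w h)))

theorem coprime_two (hp : p ≠ 2) : Nat.Coprime 2 p :=
  (Nat.coprime_primes Nat.prime_two E.prime).2 (Ne.symm hp)

theorem odd_case (hp : p ≠ 2) {w : Γ} (h : σ w = 1) (h2 : w ^ 2 = 1) : w = 1 :=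
  E.triv h h2 (E.coprime_two hp)

/-- When the exponent is odd every kernel element has a square root in the kernel. -/
theorem root (hp : p ≠ 2) {w : Γ} (h : σ w = 1) : ∃ v, σ v = 1 ∧ v * v = w := by
  obtain ⟨k, hk⟩ := E.prime.odd_of_ne_two hp
  refine ⟨w ^ (k + 1), by rw [map_pow, h, one_pow], ?_⟩
  rw [← pow_add, show k + 1 + (k + 1) = p + 1 by omega, pow_succ, E.exp w h, one_mul]

theorem sq_shift {x w : Γ} (h : σ w = 1) : x * w * (x * w) = x * x * (w * w) := by
  calc x * w * (x * w) = x * (w * x) * w := by group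
    _ = x * (x * w) * w := by rw [(E.comm h x).eq]
    _ = _ := by group

/-- An involution has a lift squaring to one when the exponent is odd. -/
theorem exists_invol (hp : p ≠ 2) {j : G} (hj : j * j = 1) : ∃ x, σ x = j ∧ x * x = 1 := by
  obtain ⟨x, hx⟩ := E.surj j
  have hk : σ (x * x)⁻¹ = 1 := by rw [map_inv, map_mul, hx, hj, inv_one]
  obtain ⟨v, hv, hv2⟩ := E.root hp hk
  exact ⟨x * v, by rw [map_mul, hv, mul_one, hx], by rw [E.sq_shift hv, hv2, mul_inv_cancel]⟩

/-- For odd exponent a lift squaring to one is unique. -/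
theorem invol_unique (hp : p ≠ 2) {x y : Γ} (h : σ x = σ y) (hx : x * x = 1) (hy : y * y = 1) : x = y := by
  obtain ⟨w, hw, rfl⟩ := E.diff h
  rw [E.sq_shift hw, hy, one_mul, ← sq] at hx
  rw [E.odd_case hp hw hx, mul_one]

/-- With exponent two the square of a lift does not depend on the lift. -/
theorem sq_eq (hp : p = 2) {x y : Γ} (h : σ x = σ y) : x * x = y * y := by
  obtain ⟨w, hw, rfl⟩ := E.diff h
  rw [E.sq_shift hw, ← sq w, ← hp, E.exp w hw, mul_one]

/-- With exponent two conjugate involutions have lifts with the same square. -/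
theorem sq_conj (hp : p = 2) {x y : Γ} {g : G} (h : σ x = g * σ y * g⁻¹) (hy : σ y * σ y = 1) :
    x * x = y * y := by
  obtain ⟨k, rfl⟩ := E.surj g
  rw [E.sq_eq hp (x := x) (y := k * y * k⁻¹) (by simp [h])]
  calc k * y * k⁻¹ * (k * y * k⁻¹) = k * (y * y) * k⁻¹ := by group
    _ = y * y * k * k⁻¹ := by rw [(E.comm (w := y * y) (by rw [map_mul, hy]) k).eq]
    _ = y * y := by group

/-- Three commuting involutions with seven conjugate products: lifts square to one. -/
theorem seven (hp : p = 2) {A : Γ} {x y : G} {a : G} (hA : σ A = a) (ha : a * a = 1)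
    (hcl : ∀ j ∈ [x, y, x * y, a * x, a * y, a * (x * y)], ∃ g : G, j = g * a * g⁻¹) : A * A = 1 := by
  obtain ⟨X, hX⟩ := E.surj x
  obtain ⟨Y, hY⟩ := E.surj y
  set q := A * A with hq
  have hqk : σ q = 1 := by rw [hq, map_mul, hA, ha]
  have hq2 : q * q = 1 := by rw [← sq, ← hp, E.exp q hqk]
  have hqc := E.comm hqk
  have sqq : ∀ {Z : Γ} {j : G}, σ Z = j → (∃ g : G, j = g * a * g⁻¹) → Z * Z = q := fun hZ hg => by
    obtain ⟨g, hg⟩ := hg
    exact E.sq_conj hp (g := g) (by rw [hZ, hg, hA]) (by rw [hA, ha])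
  have hXX := sqq hX (hcl x (by simp))
  have hYY := sqq hY (hcl y (by simp))
  have anti : ∀ {U V : Γ}, U * U = q → V * V = q → U * V * (U * V) = q → U * V = q * (V * U) := by
    intro U V hU hV hUV
    have e1 : V * U = U⁻¹ * q * V⁻¹ := by
      calc V * U = U⁻¹ * (U * V * (U * V)) * V⁻¹ := by group
        _ = _ := by rw [hUV]
    have e2 : U * V = q * (U⁻¹ * V⁻¹) * q := by
      calc U * V = U * U * (U⁻¹ * V⁻¹) * (V * V) := by group
        _ = _ := by rw [hU, hV]
    calc U * V = q * (U⁻¹ * V⁻¹) * q := e2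
      _ = q * U⁻¹ * (V⁻¹ * q) := by group
      _ = q * U⁻¹ * (q * V⁻¹) := by rw [(hqc V⁻¹).eq]
      _ = q * (V * U) := by rw [e1]; group
  have a1 := anti rfl hXX (sqq (j := a * x) (by rw [map_mul, hA, hX]) (hcl _ (by simp)))
  have a2 := anti rfl hYY (sqq (j := a * y) (by rw [map_mul, hA, hY]) (hcl _ (by simp)))
  have a3 := anti (U := A) (V := X * Y) rfl
    (sqq (j := x * y) (by rw [map_mul, hX, hY]) (hcl _ (by simp)))
    (sqq (j := a * (x * y)) (by rw [map_mul, map_mul, hA, hX, hY]) (hcl _ (by simp)))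
  have h1 : A * (X * Y) = X * Y * A := by
    calc A * (X * Y) = A * X * Y := (mul_assoc _ _ _).symm
      _ = q * (X * (A * Y)) := by rw [a1]; group
      _ = q * (X * (q * (Y * A))) := by rw [a2]
      _ = q * q * (X * Y * A) := by rw [← mul_assoc X q, (hqc X).eq]; group
      _ = _ := by rw [hq2, one_mul]
  rw [← h1] at a3
  exact mul_eq_right.1 a3.symm

/-- A lift of a centralising element commutes with `A`, for odd exponent. -/
theorem comm_odd (hp : p ≠ 2) {A : Γ} (hA2 : A * A = 1) {g : Γ} (h : σ g * σ A = σ A * σ g) :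
    g * A = A * g := by
  have e := E.invol_unique hp (x := g * A * g⁻¹) (y := A) (by simp [h]) (by
    calc g * A * g⁻¹ * (g * A * g⁻¹) = g * (A * A) * g⁻¹ := by group
      _ = 1 := by rw [hA2]; group) hA2
  calc g * A = g * A * g⁻¹ * g := by group
    _ = _ := by rw [e]

end Ext

end CfsgLib.Sporadic.ThMult
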