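import Cfsg.Agent.Lib.Sporadic.ThMult.Words

set_option autoImplicit false
set_option maxRecDepth 20000

/-! Involutions conjugate inside the 3D4(2):3 part to the first or the fourth generator (generated; owner: helper21). -/

namespace CfsgLib.Sporadic.ThMult

/-- base letter, conjugator, target -/
def conjRows : List (ℕ × List ℕ × List ℕ) := [
  (0, [2, 0], [2]),
  (0, [2, 0, 4, 2], [4]),
  (0, [2, 0, 4, 2, 6, 4, 6], [0, 4]),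
  (6, [8, 6], [8]),
  (6, [4, 6, 4], [0, 6]),
  (6, [4, 6, 4, 8, 6], [0, 8]),
  (6, [4, 6, 4, 2, 0, 8, 6, 4, 2], [4, 8]),
  (6, [8, 6, 10], [11, 8, 10]),
  (6, [4, 6, 4, 2, 0, 8, 6, 4, 2, 10, 10, 10], [4, 8, 11, 8, 10]),
  (6, [4, 2, 6, 8, 6, 4, 6, 4, 2, 0, 8, 6, 4, 2, 6], [0, 4, 8]),
  (6, [4, 6, 4, 8, 6, 10], [0, 11, 8, 10]),
  (6, [4, 11, 8, 6, 4, 6, 11, 8, 6, 4, 11, 8, 6, 4, 10, 8, 6], [0, 4, 8, 11, 8, 10]),
  (6, [5, 7, 9, 11, 11, 7, 3, 5, 7, 9, 1, 3], [0, 4, 7, 4, 6, 10, 9, 7, 4, 6, 8, 11, 11, 11, 9, 7, 4, 6, 8, 10, 10])]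

end CfsgLib.Sporadic.ThMult
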