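import Cfsg.Agent.Lib.Sporadic.ThMult.Sect
import Cfsg.Agent.Lib.Sporadic.ThMult.ConjData
import Cfsg.Agent.Lib.Sporadic.ThPres.Lower.Simple

/-!
# Words of the presented Thompson group as elements, and its class of involutions (owner: helper21)
-/

set_option autoImplicit false
set_option maxRecDepth 20000

namespace CfsgLib.Sporadic.ThMult

open Cfsg CfsgLib.Sporadic
open CfsgLib.Sporadic.ThPres (thL L toTh ev eqW relWords)
open CfsgLib.Sporadic.PairEnum (winv)

/-- The value of a word. -/
def th (w : List ℕ) : Spor.Th := (w.map thL).prod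

theorem th_append (u v : List ℕ) : th (u ++ v) = th u * th v := by simp [th]

theorem th_nil : th [] = 1 := rfl

theorem th_cons (k : ℕ) (w : List ℕ) : th (k :: w) = thL k * th w := List.prod_cons

theorem th_one (k : ℕ) : th [k] = thL k := by simp [th]

theorem th_winv (w : List ℕ) : th (winv w) = (th w)⁻¹ := PairEnum.prod_winv ThPres.thL_flp w

theorem toTh_prod {w : List ℕ} (hw : ∀ k ∈ w, k < 14) : toTh ((w.map L).prod) = th w := by
  rw [map_list_prod, List.map_map]
  exact congrArg List.prod (List.map_congr_left fun k hk => ThPres.toTh_L (hw k hk))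

/-- Two words in the first seven generators with equal values. -/
noncomputable def same (u v : List ℕ) : Bool :=
  (u ++ v).all (fun k => Nat.blt k 14) && eqW u v

theorem same_ev {u v : List ℕ} (h : same u v = true) :
    (∀ k ∈ u, k < 14) ∧ (∀ k ∈ v, k < 14) ∧ (u.map L).prod = (v.map L).prod := by
  simp only [same, Bool.and_eq_true, List.all_eq_true, List.mem_append, Nat.blt_eq] at h
  refine ⟨fun k hk => h.1 k (Or.inl hk), fun k hk => h.1 k (Or.inr hk), ?_⟩
  rw [← ThPres.ev_small fun k hk => h.1 k (Or.inl hk), ← ThPres.ev_small fun k hk => h.1 k (Or.inr hk)]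
  exact (ThPres.eqW_sound h.2).2.2

theorem th_same {u v : List ℕ} (h : same u v = true) : th u = th v := by
  obtain ⟨h1, h2, e⟩ := same_ev h
  rw [← toTh_prod h1, ← toTh_prod h2, e]

theorem th_trace {w : List ℕ} {us : List ThPres.Use} (h : ThPres.isOne ThPres.factTree 2197 w us = true) :
    th w = 1 :=
  ThPres.isOne_sound ThPres.pairsHold ThPres.reps_first.1 ThPres.holds h

theorem th_split {u v : List ℕ} (h : th (u ++ winv v) = 1) : th u = th v := by
  rw [th_append, th_winv] at h
  exact mul_inv_eq_one.1 h

theorem th_rel {w : List ℕ} (h : relWords.contains w = true) : th w = 1 :=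
  ThPres.th_rel (List.contains_iff_mem.1 h)

/-- The first generator. -/
abbrev a0 : Spor.Th := thL 0

theorem a0_sq : a0 * a0 = 1 := by
  have h := th_rel (w := [0, 0]) (by decide +kernel)
  rwa [th_cons, th_one] at h

theorem rows_ok : conjRows.all (fun r => same (winv r.2.1 ++ [r.1] ++ r.2.1) r.2.2) = true := by decide +kernel

theorem row_spec {b : ℕ} {g t : List ℕ} (h : conjRows.contains (b, g, t) = true) :
    th t = (th g)⁻¹ * thL b * th g := by
  have e := List.all_eq_true.1 rows_ok _ (List.contains_iff_mem.1 h)
  rw [← th_same e, th_append, th_append, th_winv, th_one]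

/-- Being conjugate to the first generator. -/
abbrev InA (j : Spor.Th) : Prop := InC a0 j

theorem inA_conj_word {j : Spor.Th} (h : InA j) (g : List ℕ) : InA ((th g)⁻¹ * j * th g) := by
  have := h.conj (th g)⁻¹
  rwa [inv_inv] at this

theorem inA_of_zero {g t : List ℕ} (h : conjRows.contains (0, g, t) = true) : InA (th t) := by
  rw [row_spec h]
  exact inA_conj_word (InC.self _) g

theorem inA_six_row {g t : List ℕ} (hd : InA (thL 6)) (h : conjRows.contains (6, g, t) = true) : InA (th t) := by
  rw [row_spec h]
  exact inA_conj_word hd g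

/-- A conjugation read from an equality of words. -/
theorem inA_of_eq {g u v : List ℕ} (hu : InA (th u)) (h : th (g ++ u) = th (v ++ g)) : InA (th v) := by
  rw [th_append, th_append] at h
  have e : th v = th g * th u * (th g)⁻¹ := by rw [h, mul_inv_cancel_right]
  exact e ▸ hu.conj _

end CfsgLib.Sporadic.ThMult
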