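import Cfsg.Agent.Lib.Sporadic.ThMult.Triples

/-!
# Lifts of the first seven generators satisfy the relators of the 3D4(2):3 part (owner: helper21)
-/

set_option autoImplicit false
set_option maxRecDepth 20000
set_option linter.unusedSectionVars false

namespace CfsgLib.Sporadic.ThMult

open Cfsg CfsgLib.Sporadic
open CfsgLib.Sporadic.ThPres (thL relWords)
open CfsgLib.Sporadic.PairEnum (flp winv)

variable {Γ : Type*} [Group Γ] {σ : Γ →* Spor.Th} {p : ℕ}

/-- The lift of `s`. -/
noncomputable def liftS (S : Sect σ a0) : Γ := S.C (th [6]) * S.C (th [6, 10])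

/-- A lift of `u`, up to the kernel. -/
noncomputable def liftU (S : Sect σ a0) : Γ := S.C (th iSq) * S.C (th (iSq ++ [14]))

/-- The lifts of the seven generators, given that of `t`. -/
noncomputable def gens (S : Sect σ a0) (T : Γ) : List Γ :=
  [S.C (th [0]), S.C (th [2]), S.C (th [4]), S.C (th [6]), S.C (th [8]), liftS S, T]

/-- A letter among seven. -/
noncomputable def lo (S : Sect σ a0) (T : Γ) (k : ℕ) : Γ :=
  if k % 2 = 0 then (gens S T).getD (k / 2) 1 else ((gens S T).getD (k / 2) 1)⁻¹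

theorem lo_flp (S : Sect σ a0) (T : Γ) (k : ℕ) : lo S T (flp k) = (lo S T k)⁻¹ := by
  rw [lo, lo, ThPres.flp_half, ThPres.flp_mod]
  rcases Nat.mod_two_eq_zero_or_one k with h | h <;> simp [h]

theorem inA_ds : InA (th [6, 10]) :=
  inA_split (g := [10, 10, 10]) (m := [6]) (w := [10, 10, 10, 6, 11, 11, 11]) (by decide +kernel) inA_d |>
    fun h => (th_same (u := [6, 10]) (v := [10, 10, 10, 6, 11, 11, 11]) (by decide +kernel)) ▸ h

theorem rel_eq {w : List ℕ} (h : relWords.contains w = true) {x y : Spor.Th} (e : th w = 1 → x = y) : x = y :=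
  e (th_rel h)

theorem map_liftS (S : Sect σ a0) : σ (liftS S) = thL 10 := by
  rw [liftS, map_mul, S.map_C inA_d, S.map_C inA_ds, th_two, th_one, ← mul_assoc,
    ← th_one 6, inA_sq inA_d, one_mul]

theorem map_liftU (S : Sect σ a0) : σ (liftU S) = thL 14 := by
  rw [liftU, map_mul, S.map_C inA_iSq, S.map_C inA_jSq, th_append, ← mul_assoc, inA_sq inA_iSq, one_mul, th_one]

theorem exists_liftT {S : Sect σ a0} (N : Norm σ p S) :
    ∃ T : Γ, σ T = thL 12 ∧ T ^ 3 = 1 ∧ (liftU S)⁻¹ * T * liftU S * T = 1 := by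
  have E := N.ext
  set U := liftU S
  have hrel : (thL 14)⁻¹ * thL 12 * thL 14 * thL 12 = 1 := by
    have h := th_rel (w := [15, 12, 14, 12]) (by decide +kernel)
    simpa [th, show thL 15 = (thL 14)⁻¹ from ThPres.thL_flp 14, mul_assoc] using h
  have hker : ∀ {T : Γ}, σ T = thL 12 → σ (U⁻¹ * T * U * T) = 1 := fun hT => by
    rw [map_mul, map_mul, map_mul, map_inv, map_liftU, hT, hrel]
  obtain ⟨T0, hT0⟩ := E.surj (thL 12)
  have hz : σ (T0 ^ 3) = 1 := by rw [map_pow, hT0, th_pow_three]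
  rcases eq_or_ne p 2 with hp | hp
  · set z := T0 ^ 3 with hzd
    have hz2 : z * z = 1 := by rw [← sq, ← hp, E.exp z hz]
    have hT : σ (T0 * z) = thL 12 := by rw [map_mul, hz, mul_one, hT0]
    have h3 : (T0 * z) ^ 3 = 1 := by
      rw [(show Commute T0 z from E.comm hz T0).mul_pow, ← hzd, pow_succ', sq, hz2, mul_one, hz2]
    refine ⟨T0 * z, hT, h3, ?_⟩
    set T := T0 * z
    have e : (U⁻¹ * T * U * T * T⁻¹) ^ 3 = 1 := by
      rw [mul_inv_cancel_right]
      have h1 := conj_pow (a := U⁻¹) (b := T) (i := 3)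
      rw [inv_inv, h3] at h1
      rw [h1]; group
    rw [((show Commute (U⁻¹ * T * U * T) T⁻¹ from (E.comm (hker hT) _).symm)).mul_pow, inv_pow, h3, inv_one,
      mul_one] at e
    exact E.triv (hker hT) e (by rw [hp]; decide)
  · obtain ⟨v, hv, hv2⟩ := E.root hp (w := (U⁻¹ * T0 * U * T0)⁻¹) (by rw [map_inv, hker hT0, inv_one])
    have hT : σ (T0 * v) = thL 12 := by rw [map_mul, hv, mul_one, hT0]
    set T := T0 * v with hTd
    have h1 : U⁻¹ * T * U * T = 1 := by
      calc U⁻¹ * (T0 * v) * U * (T0 * v) = U⁻¹ * T0 * (v * U) * T0 * v := by group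
        _ = U⁻¹ * T0 * U * (v * T0) * v := by rw [← (E.comm hv U).eq]; group
        _ = U⁻¹ * T0 * U * T0 * (v * v) := by rw [← (E.comm hv T0).eq]; group
        _ = 1 := by rw [hv2, mul_inv_cancel]
    have hk : σ (T ^ 3) = 1 := by rw [map_pow, hT, th_pow_three]
    refine ⟨T, hT, E.odd_case hp hk ?_, h1⟩
    have h2 := conj_pow (a := U⁻¹) (b := T) (i := 3)
    rw [inv_inv, eq_inv_of_mul_eq_one_left h1, inv_pow] at h2
    have h3 : U⁻¹ * T ^ 3 * U = T ^ 3 := by rw [(E.comm hk U⁻¹).eq, inv_mul_cancel_right]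
    rw [h3] at h2
    rw [sq]
    nth_rewrite 1 [← h2]
    rw [inv_mul_cancel]

namespace Norm

variable {S : Sect σ a0} (N : Norm σ p S)
include N

/-- Two commuting involutions. -/
theorem rel_two {x y : ℕ} (hx : InA (th [x])) (hy : InA (th [y]))
    (h : relWords.contains [x, y, x, y] = true) :
    S.C (th [x]) * S.C (th [y]) * (S.C (th [x]) * S.C (th [y])) = 1 := by
  have e := th_rel h
  rw [show [x, y, x, y] = [x, y] ++ [x, y] from rfl, th_append, show [x, y] = [x] ++ [y] from rfl, th_append] at e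
  have hc := S.C_comm hx hy (comm_of_sq (inA_sq hx) (inA_sq hy) e)
  calc _ = S.C (th [x]) * (S.C (th [y]) * S.C (th [x])) * S.C (th [y]) := by group
    _ = _ := by rw [← hc, mul_assoc, mul_assoc, S.C_sq hy, mul_one, S.C_sq hx]

/-- Two involutions with product of order three. -/
theorem rel_three {x y : ℕ} (hx : InA (th [x])) (hy : InA (th [y]))
    (h : relWords.contains [x, y, x, y, x, y] = true) :
    (S.C (th [x]) * S.C (th [y])) ^ 3 = 1 := by
  refine S.odd_pow (S.C_spec hx).1 (S.C_spec hy).1 (m := 1) ?_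
  rw [map_mul, S.map_C hx, S.map_C hy]
  have e := th_rel h
  simpa [th, pow_succ, mul_assoc] using e

/-- A lift of a generator commuting with a generating involution. -/
theorem rel_comm {x i : ℕ} (hi : InA (th [i])) {X : Γ} (hX : σ X = thL x)
    (h : relWords.contains [flp x, flp i, x, i] = true) : X⁻¹ * (S.C (th [i]))⁻¹ * X * S.C (th [i]) = 1 := by
  have e := th_rel h
  simp only [th, List.map_cons, List.map_nil, List.prod_cons, List.prod_nil, mul_one, ThPres.thL_flp] at e
  have hc : σ X * th [i] = th [i] * σ X := by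
    rw [hX, th_one]
    calc thL x * thL i = thL i * thL x * ((thL x)⁻¹ * ((thL i)⁻¹ * (thL x * thL i))) := by group
      _ = _ := by rw [e, mul_one]
  rw [mul_assoc, S.move hi hc]; group

theorem C_ds_d : S.C (th [6, 10]) * S.C (th [6]) * S.C (th [6, 10]) = S.C (th [6, 10, 10]) := by
  nth_rewrite 2 [← S.C_inv inA_ds]
  rw [S.conj_C inA_d, S.map_C inA_ds]
  congr 1
  rw [← th_winv, ← th_append, ← th_append]
  exact th_same (by decide +kernel)

theorem rel_bcde : (S.C (th [2]) * S.C (th [6]) * (S.C (th [4]) * S.C (th [8]))) ^ 8 = 1 := by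
  have hY := N.rel_two inA_b inA_d (by decide +kernel)
  have hZ := N.rel_two inA_c inA_e (by decide +kernel)
  set Y := S.C (th [2]) * S.C (th [6]) with hYd
  set Z := S.C (th [4]) * S.C (th [8]) with hZd
  have e4 : σ ((Y * Z) ^ 4) = th [2, 6, 4, 8, 2, 6, 4, 8, 2, 6, 4, 8, 2, 6, 4, 8] := by
    rw [hYd, hZd, map_pow, map_mul, map_mul, map_mul, S.map_C inA_b, S.map_C inA_d, S.map_C inA_c,
      S.map_C inA_e]
    simp [th, pow_succ, mul_assoc]
  have hin : InA (σ ((Y * Z) ^ 4)) := by
    rw [e4, th_same (u := [2, 6, 4, 8, 2, 6, 4, 8, 2, 6, 4, 8, 2, 6, 4, 8])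
      (v := winv [2, 0, 4, 6, 4, 2, 0, 8, 6, 4, 2, 0] ++ [0] ++ [2, 0, 4, 6, 4, 2, 0, 8, 6, 4, 2, 0])
      (by decide +kernel)]
    exact inA_split (g := winv [2, 0, 4, 6, 4, 2, 0, 8, 6, 4, 2, 0]) (m := [0]) (by decide +kernel) inA_zero
  have h8 : (Y * Z) ^ 8 = (Y * Z) ^ 4 * (Y * Z) ^ 4 := by rw [← pow_add]
  have hk : σ ((Y * Z) ^ 8) = 1 := by rw [h8, map_mul, inA_sq hin]
  rcases eq_or_ne p 2 with hp | hp
  · obtain ⟨g, hg⟩ := hin
    rw [h8, N.ext.sq_conj hp (x := (Y * Z) ^ 4) (y := S.A) (g := g) (by rw [S.map]; exact hg)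
      (by rw [S.map, a0_sq]), S.sq]
  · refine N.ext.odd_case hp hk ?_
    have h1 := conj_pow (a := Y) (b := Y * Z) (i := 8)
    rw [show Y * (Y * Z) * Y⁻¹ = (Y * Z)⁻¹ by
      calc Y * (Y * Z) * Y⁻¹ = Y * Y * (Z * Y⁻¹) := by group
        _ = Z⁻¹ * Y⁻¹ := by rw [hY, inv_eq_of_mul_eq_one_right hZ, one_mul]
        _ = _ := (mul_inv_rev _ _).symm, inv_pow, (N.ext.comm hk Y).eq, mul_inv_cancel_right] at h1
    rw [sq]
    nth_rewrite 1 [← h1]
    rw [inv_mul_cancel]

theorem rel_coxeter : (S.C (th [2]) * S.C (th [4]) * S.C (th [6]) * S.C (th [8])) ^ 8 = 1 := by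
  have hbd := S.C_comm inA_b inA_d (comm_of_sq (inA_sq inA_b) (inA_sq inA_d) (by
    rw [← th_append, ← th_append]; exact th_rel (by decide +kernel)))
  have hbe := S.C_comm inA_b inA_e (comm_of_sq (inA_sq inA_b) (inA_sq inA_e) (by
    rw [← th_append, ← th_append]; exact th_rel (by decide +kernel)))
  have hce := S.C_comm inA_c inA_e (comm_of_sq (inA_sq inA_c) (inA_sq inA_e) (by
    rw [← th_append, ← th_append]; exact th_rel (by decide +kernel)))
  have hb := S.C_sq inA_b
  have hc := S.C_sq inA_c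
  have h8 := N.rel_bcde
  set B := S.C (th [2])
  set C := S.C (th [4])
  set D := S.C (th [6])
  set E := S.C (th [8])
  have e : B * C * D * E = B * C * (B * D * (C * E)) * (B * C)⁻¹ := by
    have e1 : B * D * (C * E) = B * D * E * C := by rw [hce]; group
    have e2 : B * (B * D * E) = B * D * E * B := by
      calc B * (B * D * E) = B * (B * D) * E := by group
        _ = B * D * (B * E) := by rw [hbd]; group; rw [hbd]
        _ = _ := by rw [hbe]; group
    rw [e1, mul_inv_rev, inv_eq_of_mul_eq_one_right hb, inv_eq_of_mul_eq_one_right hc]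
    calc B * C * D * E = B * C * (B * B) * D * E := by rw [hb, mul_one]
      _ = B * C * (B * (B * D * E)) := by group
      _ = B * C * (B * D * E) * B := by rw [e2]; group
      _ = B * C * (B * D * E) * (C * C) * B := by rw [hc, mul_one]
      _ = _ := by group
  rw [e, conj_pow, h8, mul_one, mul_inv_cancel]

theorem rel_e_s : (S.C (th [8]))⁻¹ * ((liftS S)⁻¹ * S.C (th [8]) * liftS S) * (liftS S)⁻¹ *
    (liftS S)⁻¹ * (liftS S)⁻¹ * (S.C (th [8]))⁻¹ * (liftS S * liftS S * liftS S) = 1 := by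
  have hS := map_liftS S
  have h1 : (liftS S)⁻¹ * S.C (th [8]) * liftS S = S.C (th [11, 8, 10]) := by
    have e := S.conj_C inA_e (liftS S)⁻¹
    rw [inv_inv, map_inv, hS, inv_inv] at e
    rw [e]
    congr 1
  have h3 := N.tri_e_es.2.2.2
  have h2 : (liftS S * liftS S * liftS S)⁻¹ * S.C (th [8]) * (liftS S * liftS S * liftS S) =
      S.C (th [8] * th [11, 8, 10]) := by
    have e := S.conj_C inA_e (liftS S * liftS S * liftS S)⁻¹
    rw [inv_inv] at e
    rw [e, map_inv, inv_inv, map_mul, map_mul, hS]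
    congr 1
    rw [← th_one 10, ← th_append, ← th_append, ← th_winv, ← th_append, ← th_append, ← th_append]
    exact th_same (by decide +kernel)
  rw [h1, S.C_inv inA_e, h3]
  calc _ = S.C (th [8] * th [11, 8, 10]) *
        ((liftS S * liftS S * liftS S)⁻¹ * S.C (th [8]) * (liftS S * liftS S * liftS S)) := by group
    _ = 1 := by rw [h2, S.C_sq N.tri_e_es.2.2.1]

theorem rel_t_s {T : Γ} (hT : σ T = thL 12) :
    T⁻¹ * liftS S * T * (liftS S)⁻¹ * (liftS S)⁻¹ = 1 := by
  have h1 : T⁻¹ * S.C (th [6]) * T = S.C (th [6]) := by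
    have e := S.conj_C inA_d T⁻¹
    rw [inv_inv, map_inv, inv_inv, hT] at e
    rw [e]
    congr 1
    rw [← th_one 12, ← th_winv, ← th_append, ← th_append]
    exact th_same (by decide +kernel)
  have h2 : T⁻¹ * S.C (th [6, 10]) * T = S.C (th [6, 10, 10]) := by
    have e := S.conj_C inA_ds T⁻¹
    rw [inv_inv, map_inv, inv_inv, hT] at e
    rw [e]
    congr 1
    rw [← th_one 12, ← th_winv, ← th_append, ← th_append]
    exact th_same (by decide +kernel)
  have h3 : T⁻¹ * liftS S * T = liftS S * liftS S := by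
    calc T⁻¹ * liftS S * T = T⁻¹ * S.C (th [6]) * T * (T⁻¹ * S.C (th [6, 10]) * T) := by rw [liftS]; group
      _ = S.C (th [6]) * (S.C (th [6, 10]) * S.C (th [6]) * S.C (th [6, 10])) := by rw [h1, h2, N.C_ds_d]
      _ = _ := by rw [liftS]; group
  rw [h3]; group

/-- The first 27 relators hold. -/
theorem rel27 {T : Γ} (hT : σ T = thL 12) (hT3 : T ^ 3 = 1) :
    ∀ w ∈ ThPres.words27, (w.map (lo S T)).prod = 1 := by
  have hS := map_liftS S
  intro w hw
  simp only [ThPres.words27, relWords, List.take_succ_cons, List.take_zero, List.mem_cons, List.not_mem_nil,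
    or_false] at hw
  rcases hw with rfl | rfl | rfl | rfl | rfl | rfl | rfl | rfl | rfl | rfl | rfl | rfl | rfl | rfl | rfl | rfl |
    rfl | rfl | rfl | rfl | rfl | rfl | rfl | rfl | rfl | rfl | rfl <;>
    simp only [lo, gens, List.map_cons, List.map_nil, List.prod_cons, List.prod_nil, mul_one, Nat.reduceMod,
      Nat.reduceDiv, List.getD_cons_zero, List.getD_cons_succ, if_true, Nat.one_ne_zero, if_false]
  · exact S.C_sq inA_zero
  · exact S.C_sq inA_b
  · exact S.C_sq inA_c
  · exact S.C_sq inA_d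
  · exact S.C_sq inA_e
  · simpa [pow_succ, mul_assoc] using N.rel_three inA_zero inA_b (by decide +kernel)
  · simpa [mul_assoc] using N.rel_two inA_zero inA_e (by decide +kernel)
  · simpa [pow_succ, mul_assoc] using N.rel_three inA_b inA_c (by decide +kernel)
  · simpa [mul_assoc] using N.rel_two inA_b inA_d (by decide +kernel)
  · simpa [mul_assoc] using N.rel_two inA_b inA_e (by decide +kernel)
  · rw [show th [0] = a0 from th_one 0, S.C_self, ← N.norm, pow_succ, pow_succ, pow_succ, pow_one]; group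
  · simpa [mul_assoc] using N.rel_two inA_c inA_e (by decide +kernel)
  · simpa [pow_succ, mul_assoc] using N.rel_three inA_d inA_e (by decide +kernel)
  · simpa [pow_succ, mul_assoc] using N.rel_coxeter
  · have h := S.odd_pow (S.C_spec inA_d).1 (S.C_spec inA_ds).1 (m := 3)
      (by rw [show S.C (th [6]) * S.C (th [6, 10]) = liftS S from rfl, hS]; exact th_pow_seven)
    simpa [pow_succ, mul_assoc, liftS] using h
  · simpa [mul_assoc] using N.rel_comm inA_zero hS (by decide +kernel)
  · simpa [mul_assoc] using N.rel_comm inA_b hS (by decide +kernel)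
  · simpa [mul_assoc] using N.rel_comm inA_c hS (by decide +kernel)
  · rw [liftS]
    calc _ = S.C (th [6]) * S.C (th [6, 10]) * (S.C (th [6]) * S.C (th [6])) * S.C (th [6, 10]) * S.C (th [6]) := by
          group
      _ = S.C (th [6]) * (S.C (th [6, 10]) * S.C (th [6, 10])) * S.C (th [6]) := by
          rw [S.C_sq inA_d, mul_one]; group
      _ = 1 := by rw [S.C_sq inA_ds, mul_one, S.C_sq inA_d]
  · rw [← N.rel_e_s]; group
  · simpa [pow_succ, mul_assoc] using hT3
  · simpa [mul_assoc] using N.rel_comm inA_zero hT (by decide +kernel)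
  · simpa [mul_assoc] using N.rel_comm inA_b hT (by decide +kernel)
  · simpa [mul_assoc] using N.rel_comm inA_c hT (by decide +kernel)
  · simpa [mul_assoc] using N.rel_comm inA_d hT (by decide +kernel)
  · simpa [mul_assoc] using N.rel_comm inA_e hT (by decide +kernel)
  · rw [← N.rel_t_s hT]; group

end Norm

end CfsgLib.Sporadic.ThMult
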