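import Cfsg.Agent.Lib.Sporadic.ThMult.ThFacts

/-!
# The canonical lifts of the involutions of the Thompson group (owner: helper21)

A lift of `a` squaring to one is centralised over the centraliser of `a`. It is normalised by `a = (cd)^4`.
-/

set_option autoImplicit false
set_option maxRecDepth 20000
set_option linter.unusedSectionVars false

namespace CfsgLib.Sporadic.ThMult

open Cfsg CfsgLib.Sporadic
open CfsgLib.Sporadic.ThPres (thL)

variable {Γ : Type*} [Group Γ] {σ : Γ →* Spor.Th} {p : ℕ}

theorem InC.sq {G : Type*} [Group G] {a j : G} (ha : a * a = 1) (h : InC a j) : j * j = 1 := by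
  obtain ⟨g, rfl⟩ := h
  calc g * a * g⁻¹ * (g * a * g⁻¹) = g * (a * a) * g⁻¹ := by group
    _ = 1 := by rw [ha]; group

theorem inA_sq {j : Spor.Th} (h : InA j) : j * j = 1 := h.sq a0_sq

theorem inA_exists {j : Spor.Th} (h : InA j) : ∃ g : Spor.Th, j = g * a0 * g⁻¹ := h

theorem th_two (i j : ℕ) : th [i, j] = thL i * thL j := by rw [th_cons, th_one]

/-- A lift of `a` squaring to one. -/
theorem exists_lift_sq (E : Ext σ p) : ∃ A : Γ, σ A = a0 ∧ A * A = 1 := by
  rcases eq_or_ne p 2 with hp | hp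
  · obtain ⟨A, hA⟩ := E.surj a0
    refine ⟨A, hA, E.seven hp (x := th [4, 8]) (y := th [11, 8, 10]) hA a0_sq fun j hj => ?_⟩
    have e1 : th [4, 8] * th [11, 8, 10] = th [4, 8, 11, 8, 10] := (th_append _ _).symm
    have e2 : ∀ w : List ℕ, a0 * th w = th (0 :: w) := fun w => (th_cons 0 w).symm
    simp only [List.mem_cons, List.not_mem_nil, or_false] at hj
    rcases hj with rfl | rfl | rfl | rfl | rfl | rfl
    · exact inA_x
    · exact inA_y
    · rw [e1]; exact inA_xy
    · rw [e2]; exact inA_ax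
    · rw [e2]; exact inA_ay
    · rw [e1, e2]; exact inA_axy
  · exact E.exists_invol hp a0_sq

theorem comm_pow {g A z : Γ} (hz : ∀ x : Γ, Commute x z) (h : g * A = z * (A * g)) (n : ℕ) :
    g ^ n * A = z ^ n * (A * g ^ n) := by
  induction n with
  | zero => simp
  | succ n ih =>
    calc g ^ (n + 1) * A = g ^ n * (g * A) := by rw [pow_succ]; group
      _ = g ^ n * z * (A * g) := by rw [h]; group
      _ = z * (g ^ n * A) * g := by rw [(hz _).eq]; group
      _ = _ := by rw [ih, pow_succ' z, pow_succ g]; group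

/-- A lift of an element of odd order centralising `a` centralises a lift of `a`, for exponent two. -/
theorem comm_of_odd (E : Ext σ p) (hp : p = 2) {g A : Γ} (h : σ g * σ A = σ A * σ g) {m : ℕ}
    (hm : σ g ^ (2 * m + 1) = 1) : g * A = A * g := by
  set z := g * A * (A * g)⁻¹ with hz
  have hk : σ z = 1 := by rw [hz, map_mul, map_inv, map_mul, map_mul, h, mul_inv_cancel]
  have e := comm_pow (E.comm hk) (g := g) (A := A) (z := z) (by rw [hz]; group) (2 * m + 1)
  rw [(E.comm (w := g ^ (2 * m + 1)) (by rw [map_pow, hm]) A).eq] at e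
  have h1 := mul_eq_right.1 e.symm
  rw [pow_succ, pow_mul, ← hp, E.exp z hk, one_pow, one_mul, hz, mul_inv_eq_one] at h1
  exact h1

/-- Two involutions with conjugate lifts and an involutory product commute, for exponent two. -/
theorem comm_of_class (E : Ext σ p) (hp : p = 2) {A C : Γ} (hA : σ A = a0) (hA2 : A * A = 1)
    (hc : InA (σ C)) (hac : InA (σ A * σ C)) : C * A = A * C := by
  have h1 : ∀ X : Γ, InA (σ X) → X * X = 1 := fun X hX => by
    obtain ⟨g, hg⟩ := hX
    rw [E.sq_conj hp (x := X) (y := A) (g := g) (by rw [hA]; exact hg) (by rw [hA, a0_sq]), hA2]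
  calc C * A = C⁻¹ * A⁻¹ := by rw [inv_eq_of_mul_eq_one_right hA2, inv_eq_of_mul_eq_one_right (h1 C hc)]
    _ = A * C := by
      rw [← mul_inv_rev, inv_eq_of_mul_eq_one_right (h1 (A * C) (by rw [map_mul]; exact hac))]

theorem comm_gen' {x : ℕ} (hx : x ∈ ([0, 4, 6, 8, 10, 12, 14] : List ℕ)) {C : Γ} (hC : σ C = thL x) {A : Γ}
    (hA : σ A = a0) : σ C * σ A = σ A * σ C := by rw [hA, hC, comm_gen hx]

theorem th_pow_seven : thL 10 ^ 7 = 1 := by
  have h := th_rel (w := List.replicate 7 10) (by decide +kernel)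
  simpa [th, pow_succ, mul_assoc] using h

theorem th_pow_three : thL 12 ^ 3 = 1 := by
  have h := th_rel (w := List.replicate 3 12) (by decide +kernel)
  simpa [th, pow_succ, mul_assoc] using h

theorem th_us_three : (thL 14 * thL 11) ^ 3 = 1 := by
  rw [← eq_Uh]
  simp [th, pow_succ, mul_assoc]

/-- The centraliser of `a` lifts into the centraliser of its lift. -/
theorem comm_lift (E : Ext σ p) {A : Γ} (hA : σ A = a0) (hA2 : A * A = 1) {g : Γ}
    (h : σ g * a0 = a0 * σ g) : g * A = A * g := by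
  rcases ne_or_eq p 2 with hp | hp
  · exact E.comm_odd hp hA2 (by rw [hA]; exact h)
  have hgen : ∀ x ∈ ([0, 4, 6, 8, 10, 12, 14] : List ℕ), ∀ C : Γ, σ C = thL x → C * A = A * C := by
    have hcl : ∀ {x : ℕ}, InA (th [x]) → InA (th [0, x]) → ∀ C : Γ, σ C = thL x → C * A = A * C :=
      fun {x} h1 h2 C hC => by
        rw [th_one] at h1
        rw [th_two] at h2
        exact comm_of_class E hp hA hA2 (by rw [hC]; exact h1) (by rw [hA, hC]; exact h2)
    intro x hx
    simp only [List.mem_cons, List.not_mem_nil, or_false] at hx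
    rcases hx with rfl | rfl | rfl | rfl | rfl | rfl | rfl
    · intro C hC
      obtain ⟨w, hw, rfl⟩ := E.diff (x := C) (y := A) (by rw [hC, hA])
      rw [mul_assoc, ← (E.comm hw A).eq]
    · exact hcl inA_c inA_ac
    · exact hcl inA_d inA_ad
    · exact hcl inA_e inA_ae
    · exact fun C hC => comm_of_odd E hp (m := 3) (comm_gen' (by decide) hC hA) (by rw [hC]; exact th_pow_seven)
    · exact fun C hC => comm_of_odd E hp (m := 1) (comm_gen' (by decide) hC hA) (by rw [hC]; exact th_pow_three)
    · intro C hC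
      obtain ⟨S, hS⟩ := E.surj (thL 10)
      have hS' := comm_of_odd E hp (m := 3) (comm_gen' (by decide) hS hA) (by rw [hS]; exact th_pow_seven)
      have hCS : σ (C * S⁻¹) = thL 14 * thL 11 := by
        rw [map_mul, map_inv, hC, hS, ← ThPres.thL_flp]
        rfl
      have hc : (C * S⁻¹) * A = A * (C * S⁻¹) := comm_of_odd E hp (m := 1)
        (((show Commute (σ C) (σ A) from comm_gen' (by decide) hC hA).mul_left
          (show Commute (σ S) (σ A) from comm_gen' (by decide) hS hA).inv_left).eq |> fun h => by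
          rw [map_mul, map_inv]; exact h)
        (by rw [hCS]; exact th_us_three)
      calc C * A = C * S⁻¹ * (S * A) := by group
        _ = C * S⁻¹ * A * S := by rw [hS']; group
        _ = A * C := by rw [hc]; group
  have hle : Subgroup.centralizer ({a0} : Set Spor.Th) ≤ (Subgroup.centralizer ({A} : Set Γ)).map σ := by
    rw [cent_eq, Subgroup.closure_le]
    rintro _ ⟨x, hx, rfl⟩
    obtain ⟨C, hC⟩ := E.surj (thL x)
    exact ⟨C, Subgroup.mem_centralizer_singleton_iff.2 (hgen x hx C hC), hC⟩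
  obtain ⟨k, hk, hke⟩ := hle (Subgroup.mem_centralizer_singleton_iff.2 h)
  obtain ⟨w, hw, rfl⟩ := E.diff hke.symm
  have hk' : k * A = A * k := Subgroup.mem_centralizer_singleton_iff.1 hk
  calc k * w * A = k * (A * w) := by rw [(E.comm hw A).eq]; group
    _ = A * (k * w) := by rw [← mul_assoc, hk']; group

/-- A section with another lift of the base involution. -/
def Sect.shift {G : Type*} [Group G] {τ : Γ →* G} {a : G} (S : Sect τ a) (w : Γ) (hw : τ w = 1)
    (hc : ∀ g : Γ, Commute g w) (h2 : w * w = 1) : Sect τ a where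
  A := S.A * w
  map := by rw [map_mul, S.map, hw, mul_one]
  sq := by
    calc S.A * w * (S.A * w) = S.A * (w * S.A) * w := by group
      _ = S.A * S.A * (w * w) := by rw [← (hc S.A).eq]; group
      _ = 1 := by rw [S.sq, h2, one_mul]
  surj := S.surj
  comm g h := by
    calc g * (S.A * w) = g * S.A * w := by group
      _ = S.A * (g * w) := by rw [S.comm g h]; group
      _ = _ := by rw [(hc g).eq]; group

theorem Sect.C_shift {G : Type*} [Group G] {τ : Γ →* G} {a : G} (S : Sect τ a) (w : Γ) (hw : τ w = 1)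
    (hc : ∀ g : Γ, Commute g w) (h2 : w * w = 1) {j : G} (hj : InC a j) :
    (S.shift w hw hc h2).C j = S.C j * w := by
  obtain ⟨g, hg⟩ := (S.C_spec hj).1
  have hm : S.C j * w ∈ Can (S.shift w hw hc h2).A := by
    refine ⟨g, ?_⟩
    show S.C j * w = g * (S.A * w) * g⁻¹
    rw [hg, mul_assoc, (hc g⁻¹).eq]
    group
  have e := (S.shift w hw hc h2).eq_C hm
  rw [map_mul, hw, mul_one, S.map_C hj] at e
  exact e.symm

theorem cd_four : (th [4] * th [6]) ^ 4 = a0 := by
  have h : th [4, 6, 4, 6, 4, 6, 4, 6] = th [0] := th_same (by decide +kernel)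
  rw [th_one 0] at h
  rw [show a0 = thL 0 from rfl, ← h]
  simp [th, pow_succ, mul_assoc]

/-- The section normalised by `a = (cd)^4`. -/
theorem exists_sect (E : Ext σ p) : ∃ S : Sect σ a0, (S.C (th [4]) * S.C (th [6])) ^ 4 = S.A := by
  obtain ⟨A0, hA, hA2⟩ := exists_lift_sq E
  let S : Sect σ a0 := ⟨A0, hA, hA2, E.surj, fun g h => comm_lift E hA hA2 h⟩
  set C := S.C (th [4])
  set D := S.C (th [6])
  set q := (C * D) ^ 4 with hq
  have hσq : σ q = a0 := by rw [hq, map_pow, map_mul, S.map_C inA_c, S.map_C inA_d, cd_four]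
  have hk : σ (q * q) = 1 := by rw [map_mul, hσq, a0_sq]
  have hC2 : C * C = 1 := S.C_sq inA_c
  have hD2 : D * D = 1 := S.C_sq inA_d
  have hinv : C * q * C⁻¹ = q⁻¹ := by
    rw [hq, ← inv_pow, mul_inv_rev, inv_eq_of_mul_eq_one_right hC2, inv_eq_of_mul_eq_one_right hD2,
      show D * C = C * (C * D) * C by rw [← mul_assoc C C D, hC2, one_mul]]
    have h1 := conj_pow (a := C) (b := C * D) (i := 4)
    rw [inv_eq_of_mul_eq_one_right hC2] at h1
    exact h1.symm
  obtain ⟨w, hw, hqe⟩ := E.diff (hσq.trans hA.symm)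
  have hw2 : w * w = 1 := by
    rcases eq_or_ne p 2 with hp | hp
    · rw [← sq, ← hp, E.exp w hw]
    · have e : (q * q) ^ 2 = 1 := by
        rw [sq]
        calc q * q * (q * q) = C * (q * q) * C⁻¹ * (q * q) := by
              rw [(E.comm hk C).eq, mul_inv_cancel_right]
          _ = C * q * C⁻¹ * (C * q * C⁻¹) * (q * q) := by group
          _ = 1 := by rw [hinv]; group
      rw [E.invol_unique hp (hσq.trans hA.symm) (E.odd_case hp hk e) hA2, left_eq_mul] at hqe
      rw [hqe, one_mul]
  refine ⟨S.shift w hw (E.comm hw) hw2, ?_⟩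
  rw [S.C_shift _ _ _ _ inA_c, S.C_shift _ _ _ _ inA_d]
  show (C * w * (D * w)) ^ 4 = A0 * w
  rw [show C * w * (D * w) = C * (w * D) * w by group, ← (E.comm hw D).eq, ← mul_assoc, mul_assoc (C * D), hw2,
    mul_one, ← hq]
  exact hqe

end CfsgLib.Sporadic.ThMult
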