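import Cfsg.Agent.Lib.Sporadic.ThMult.Moves

set_option autoImplicit false
set_option maxRecDepth 20000

/-! Turns of the long relators and how they move (generated; owner: helper21). -/

namespace CfsgLib.Sporadic.ThMult

/-- a relator -/
def rel31 : List ℕ := [6, 8, 15, 6, 14, 6, 8, 15, 6, 14]

/-- the turns of a relator -/
def turns31 : List (List ℕ) := [[5, 1, 6], [6, 8], [5, 1, 6], [6, 8]]

/-- a relator -/
def rel33 : List ℕ := [7, 15, 6, 3, 5, 1, 2, 7, 14, 6, 3, 0, 4, 2, 5, 9, 7, 15, 6, 3, 5, 1, 2, 9, 15]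

/-- the turns of a relator -/
def turns33 : List (List ℕ) := [[5, 1, 6, 3, 5, 1, 2, 7], [6, 3, 0, 4, 2, 5, 9, 7], [5, 1, 6, 3, 5, 1, 2, 9], [5, 1, 7]]

/-- a relator -/
def rel36 : List ℕ := [0, 4, 11, 15, 11, 15, 11, 15]

/-- the turns of a relator -/
def turns36 : List (List ℕ) := [[5, 1, 11], [5, 1, 11], [5, 1, 0, 4, 11]]

/-- a relator -/
def rel37 : List ℕ := [0, 4, 11, 15, 10, 14, 11, 15, 10, 14, 11, 15, 10, 14, 11, 15, 10, 14]

/-- the turns of a relator -/
def turns37 : List (List ℕ) := [[5, 1, 10], [11], [5, 1, 10], [11], [5, 1, 10], [11], [5, 1, 10], [0, 4, 11]]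

/-- a relator -/
def rel38 : List ℕ := [6, 11, 11, 14, 10, 10, 6, 11, 11, 14, 10, 10, 6, 11, 11, 14, 10, 10, 6, 11, 11, 14, 9, 7, 5, 6, 8, 10, 10, 10, 9, 7, 5, 6, 8, 11, 7, 5, 6, 5, 1]

/-- the turns of a relator -/
def turns38 : List (List ℕ) := [[10, 10, 6, 11, 11], [10, 10, 6, 11, 11], [10, 10, 6, 11, 11], [9, 7, 5, 6, 8, 10, 10, 10, 9, 7, 5, 6, 8, 11, 7, 5, 6, 5, 1, 6, 11, 11]]

/-- special elements reflecting the turns -/
def refl31 : List (List ℕ) := [[2], [], [1, 2, 4, 6, 4, 6, 4], [1, 6], [2]]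

/-- special elements reflecting the turns -/
def refl33 : List (List ℕ) := [[2, 6, 1, 2], [0, 2, 6, 2], [2, 6, 1, 2], [6, 2, 6, 4], [2, 6, 1, 2]]

/-- special elements reflecting the turns -/
def refl38 : List (List ℕ) := [[1, 6], [0, 1], [], [1, 6, 4, 6, 2, 6, 4], [1, 6]]

/-- a collapse -/
def steps37 : List Step := [(true, [0, 1], []), (false, [3, 3], [3]), (false, [3], [3]), (false, [0, 1], [3, 3]), (false, [3, 3], [3, 3]), (true, [3], []), (false, [], [])]

/-- the second turn of the four triangles -/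
def tetY : List ℕ := [12, 5, 1, 11]

/-- special elements around the four triangles -/
def tetSides : List (List ℕ) := [[3], [], [3, 3], [3, 3], [0, 1, 3], [3], [0, 1, 3, 3]]

end CfsgLib.Sporadic.ThMult
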