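import Cfsg.Agent.Lib.Sporadic.ThMult.Special
import Cfsg.Agent.Lib.Sporadic.ThMult.TurnData

/-!
# The long relators hold in the extension (owner: helper21)

The triangle is adjusted for exponent two and is killed by four triangles otherwise; it collapses one octagon.
The quadrangles are inverted by reflections, and are squares or cubes of known elements for exponent two.
-/

set_option autoImplicit false
set_option maxRecDepth 20000
set_option linter.unusedSectionVars false

namespace CfsgLib.Sporadic.ThMult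

open Cfsg CfsgLib.Sporadic
open CfsgLib.Sporadic.ThPres (thL relWords P0 L toTh)
open CfsgLib.Sporadic.PairEnum (winv flp)

variable {Γ : Type*} [Group Γ] {σ : Γ →* Spor.Th} {p : ℕ} {S : Sect σ a0} {T : Γ} {ψ : P0 →* Γ} {Z : Γ}

theorem map_wv (hψ : Low S T ψ) (hZ : σ Z = thL 14) (w : List ℕ) : σ (wv ψ Z w) = th w := by
  rw [wv, map_list_prod, List.map_map]
  refine congrArg List.prod (List.map_congr_left fun k _ => ?_)
  by_cases h14 : k = 14
  · subst h14; simp [lv, hZ]
  by_cases h15 : k = 15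
  · subst h15
    simp [lv, hZ, show thL 15 = (thL 14)⁻¹ from ThPres.thL_flp 14]
  rw [Function.comp_apply, lv, if_neg h14, if_neg h15, ← MonoidHom.comp_apply, hψ.comp]
  rcases Nat.lt_or_ge k 14 with h | h
  · exact ThPres.toTh_L h
  · rw [ThPres.L_big h, map_one, ThPres.thL_big (by omega)]

theorem wv_ker (hψ : Low S T ψ) (hZ : σ Z = thL 14) {r : List ℕ} (h : relWords.contains r = true) :
    σ (wv ψ Z r) = 1 := by rw [map_wv hψ hZ, th_rel h]

theorem cyc_rot (A : List ℕ) (As : List (List ℕ)) (hk : ∀ x : Γ, Commute x (cyc ψ Z (A :: As))) :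
    cyc ψ Z (As ++ [A]) = cyc ψ Z (A :: As) := by
  rw [cyc_append, cyc_cons, cyc_nil, mul_one, cyc_cons]
  calc cyc ψ Z As * (Z * V ψ A) = (Z * V ψ A)⁻¹ * (Z * V ψ A * cyc ψ Z As) * (Z * V ψ A) := by group
    _ = _ := by
      rw [← cyc_cons, (hk (Z * V ψ A)⁻¹).eq, inv_mul_cancel_right]

theorem Good.reflect (g : Good ψ Z) {A B C D : List ℕ} {vs : List (List ℕ)}
    (hk : ∀ x : Γ, Commute x (cyc ψ Z [A, B, C, D]))
    (h : equivB [A, B, C, D] [back C, back B, back A, back D] vs = true ∨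
      equivB [A, B, C, D] [back B, back A, back D, back C] vs = true)
    (hc : same (kap (vs.getLastD [])) (kap (vs.headD [])) = true) :
    cyc ψ Z [A, B, C, D] * cyc ψ Z [A, B, C, D] = 1 := by
  have hb := g.cyc_back_four hk
  have hb' : ∀ x : Γ, Commute x (cyc ψ Z [back C, back B, back A, back D]) := fun x => by
    rw [hb]; exact (hk x).inv_right
  rcases h with h | h
  · have e := g.equiv_eq h hc hk
    rw [hb] at e
    nth_rewrite 1 [← e]
    exact inv_mul_cancel _
  · have e := g.equiv_eq h hc hk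
    rw [show [back B, back A, back D, back C] = [back B, back A, back D] ++ [back C] from rfl,
      cyc_rot _ _ hb', hb] at e
    nth_rewrite 1 [← e]
    exact inv_mul_cancel _

/-- The first turns of the triangle backwards. -/
noncomputable def tri36b : List (List ℕ) :=
  [back (turns36.getD 1 []), back (turns36.getD 0 []), back (turns36.getD 2 [])]

theorem tetrahedron (g : Good ψ Z) (hk : ∀ x : Γ, Commute x (cyc ψ Z turns36)) :
    cyc ψ Z turns36 ^ 4 = 1 := by
  have t : turns36 = [turns36.getD 0 [], turns36.getD 1 [], turns36.getD 2 []] := by decide +kernel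
  set k := cyc ψ Z turns36 with hkd
  have hki : ∀ x : Γ, Commute x k⁻¹ := fun x => (hk x).inv_right
  have h0 : cyc ψ Z [turns36.getD 0 [], turns36.getD 1 [], turns36.getD 2 []] = k := by rw [hkd, ← t]
  have h1 : cyc ψ Z tri36b = k⁻¹ := by
    rw [tri36b, g.cyc_back_three (by rw [h0]; exact hk), h0]
  have hb0 : Z * V ψ (triA turns36 tri36b false) * Z =
      V ψ (triP turns36 tri36b false) * Z * V ψ (triQ turns36 tri36b false) * k := g.base h0 hk
  have hb1 : Z * V ψ (triA turns36 tri36b true) * Z =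
      V ψ (triP turns36 tri36b true) * Z * V ψ (triQ turns36 tri36b true) * k⁻¹ := g.base h1 hki
  let x := triA turns36 tri36b true
  let Px := triP turns36 tri36b true
  let Qx := triQ turns36 tri36b true
  let Py := [0, 4] ++ pik (tetSides.getD 0 []) ++ [5, 1] ++ triP turns36 tri36b false
  let Qy := triQ turns36 tri36b false ++ pik (tetSides.getD 1 [])
  let PL := [0, 4] ++ pik (tetSides.getD 2 []) ++ [5, 1] ++ triP turns36 tri36b true
  let QL := triQ turns36 tri36b true ++ pik (tetSides.getD 3 [])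
  let PR := [0, 4] ++ pik (tetSides.getD 4 []) ++ [5, 1] ++ triP turns36 tri36b false
  let QR := triQ turns36 tri36b false ++ pik (tetSides.getD 5 [])
  let tv := tetSides.getD 6 []
  have hy : Z * V ψ tetY * Z = V ψ Py * Z * V ψ Qy * k :=
    g.moved hk hb0 (v := tetSides.getD 0 []) (w := tetSides.getD 1 []) (by decide +kernel) (by decide +kernel)
  have hl : Z * V ψ (Qx ++ tetY) * Z = V ψ PL * Z * V ψ QL * k⁻¹ :=
    g.moved hki hb1 (v := tetSides.getD 2 []) (w := tetSides.getD 3 []) (by decide +kernel) (by decide +kernel)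
  have hr : Z * V ψ (x ++ Py) * Z = V ψ PR * Z * V ψ QR * k :=
    g.moved hk hb0 (v := tetSides.getD 4 []) (w := tetSides.getD 5 []) (by decide +kernel) (by decide +kernel)
  have e1 : same (Px ++ PL) (PR ++ kap tv) = true := by decide +kernel
  have e2 : same (pik tv ++ QL) (QR ++ Qy) = true := by decide +kernel
  have hv : small tv = true := by decide +kernel
  have E1 : V ψ Px * V ψ PL = V ψ PR * V ψ (kap tv) := by rw [← V_append, ← V_append]; exact V_same ψ e1
  have E2 : V ψ (pik tv) * V ψ QL = V ψ QR * V ψ Qy := by rw [← V_append, ← V_append]; exact V_same ψ e2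
  rw [V_append] at hl hr
  have hleft : Z * V ψ x * Z * V ψ tetY * Z = V ψ PR * Z * V ψ QR * V ψ Qy * (k⁻¹ * k⁻¹) := by
    calc Z * V ψ x * Z * V ψ tetY * Z = V ψ Px * Z * V ψ Qx * (k⁻¹ * (V ψ tetY * Z)) := by
          rw [hb1]; group; rfl
      _ = V ψ Px * (Z * (V ψ Qx * V ψ tetY) * Z) * k⁻¹ := by rw [← (hki (V ψ tetY * Z)).eq]; group
      _ = V ψ Px * V ψ PL * Z * V ψ QL * (k⁻¹ * k⁻¹) := by rw [hl]; group
      _ = V ψ PR * (V ψ (kap tv) * Z) * V ψ QL * (k⁻¹ * k⁻¹) := by rw [E1]; group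
      _ = V ψ PR * Z * (V ψ (pik tv) * V ψ QL) * (k⁻¹ * k⁻¹) := by rw [g.move hv]; group
      _ = _ := by rw [E2]; group
  have hright : Z * V ψ x * Z * V ψ tetY * Z = V ψ PR * Z * V ψ QR * V ψ Qy * (k * k) := by
    calc Z * V ψ x * Z * V ψ tetY * Z = Z * V ψ x * (Z * V ψ tetY * Z) := by group
      _ = Z * (V ψ x * V ψ Py) * Z * V ψ Qy * k := by rw [hy]; group
      _ = V ψ PR * Z * V ψ QR * (k * V ψ Qy) * k := by rw [hr]; group
      _ = _ := by rw [← (hk (V ψ Qy)).eq]; group
  have e := mul_left_cancel (hleft.symm.trans hright)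
  rw [show k ^ 4 = k * k * (k * k) by rw [pow_succ, pow_succ, pow_succ, pow_one]; group]
  nth_rewrite 1 [← e]
  group

theorem collapse37 (g : Good ψ Z) (h36 : cyc ψ Z turns36 = 1) : cyc ψ Z turns37 = 1 := by
  have t : turns36 = [turns36.getD 0 [], turns36.getD 1 [], turns36.getD 2 []] := by decide +kernel
  have h0 : cyc ψ Z [turns36.getD 0 [], turns36.getD 1 [], turns36.getD 2 []] = 1 := by rw [← t]; exact h36
  have h1 : cyc ψ Z tri36b = 1 := by
    rw [tri36b, g.cyc_back_three (by rw [h0]; exact fun x => Commute.one_right x), h0, inv_one]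
  refine g.collapse_sound (T0 := turns36) (T1 := tri36b) (st := steps37) (fun o => ?_) (by decide +kernel)
  cases o
  · have := g.base h0 fun x => Commute.one_right x
    rwa [mul_one] at this
  · have := g.base h1 fun x => Commute.one_right x
    rwa [mul_one] at this

variable (N : Norm σ p S) (hψ : Low S T ψ) (hZ : σ Z = thL 14)
include N hψ hZ

theorem turns_eq (g : Good ψ Z) {r : List ℕ} {i : ℕ} {As : List (List ℕ)} (hr : relWords.contains r = true)
    (h : turnsB r i As = true) : cyc ψ Z As = wv ψ Z r ∧ ∀ x : Γ, Commute x (cyc ψ Z As) := by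
  have hk := N.ext.comm (wv_ker hψ hZ hr)
  have e := g.cyc_of_turns h hk
  exact ⟨e, e ▸ hk⟩

theorem rel31_one (g : Good ψ Z) : wv ψ Z rel31 = 1 := by
  have hr : relWords.contains rel31 = true := by decide +kernel
  have hk := wv_ker hψ hZ hr
  rcases eq_or_ne p 2 with hp | hp
  · rw [show rel31 = [6, 8, 15, 6, 14] ++ [6, 8, 15, 6, 14] from rfl, wv_append]
    obtain ⟨c, hc⟩ := inA_deed
    rw [N.ext.sq_conj hp (x := wv ψ Z [6, 8, 15, 6, 14]) (y := S.A) (g := c)
      (by rw [map_wv hψ hZ, S.map]; exact hc) (by rw [S.map, a0_sq]), S.sq]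
  · have t : turns31 = [turns31.getD 0 [], turns31.getD 1 [], turns31.getD 2 [], turns31.getD 3 []] := by
      decide +kernel
    obtain ⟨e, hc⟩ := turns_eq N hψ hZ g hr (i := 2) (As := turns31) (by decide +kernel)
    rw [t] at e hc
    refine N.ext.odd_case hp hk ?_
    rw [sq, ← e]
    exact g.reflect hc (vs := refl31) (Or.inr (by decide +kernel)) (by decide +kernel)

theorem rel33_one (g : Good ψ Z) : wv ψ Z rel33 = 1 := by
  have hr : relWords.contains rel33 = true := by decide +kernel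
  have hk := wv_ker hψ hZ hr
  rcases ne_or_eq p 2 with hp | hp
  · have t : turns33 = [turns33.getD 0 [], turns33.getD 1 [], turns33.getD 2 [], turns33.getD 3 []] := by
      decide +kernel
    obtain ⟨e, hc⟩ := turns_eq N hψ hZ g hr (i := 1) (As := turns33) (by decide +kernel)
    rw [t] at e hc
    refine N.ext.odd_case hp hk ?_
    rw [sq, ← e]
    exact g.reflect hc (vs := refl33) (Or.inr (by decide +kernel)) (by decide +kernel)
  obtain ⟨eX, inX⟩ := hψ.V_conj (x := 0) (g := [2, 0, 4, 2, 6, 4, 2, 6]) (w := [3, 5, 1, 3]) (by decide)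
    (by decide +kernel)
  obtain ⟨eA, inA'⟩ := hψ.V_gen (x := 0) (by decide)
  obtain ⟨eC, -⟩ := hψ.V_gen (x := 4) (by decide)
  obtain ⟨eD, -⟩ := hψ.V_gen (x := 6) (by decide)
  obtain ⟨eE, -⟩ := hψ.V_gen (x := 8) (by decide)
  set X := S.C (th [3, 5, 1, 3]) with hXd
  set A := S.C (th [0]) with hAd
  set C := S.C (th [4]) with hCd
  set D := S.C (th [6]) with hDd
  set F := S.C (th [8]) with hFd
  have hA2 : A * A = 1 := S.C_sq inA_zero
  have hC2 : C * C = 1 := S.C_sq inA_c
  have hD2 : D * D = 1 := S.C_sq inA_d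
  have hX2 : X * X = 1 := S.C_sq inX
  have v7 : V ψ [7] = D := by
    rw [show ([7] : List ℕ) = winv [6] from rfl, V_winv, eD]; exact S.C_inv inA_d
  have v59 : V ψ [5, 9] = C * F := by
    rw [show ([5, 9] : List ℕ) = winv [4] ++ winv [8] from rfl, V_append, V_winv, V_winv, eC, eE, S.C_inv inA_c,
      S.C_inv inA_e]
  have v9 : V ψ [9] = F := by rw [show ([9] : List ℕ) = winv [8] from rfl, V_winv, eE]; exact S.C_inv inA_e
  have hAF := N.rel_two inA_zero inA_e (by decide +kernel)
  have hCF : C * F = F * C := by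
    refine S.C_comm inA_c inA_e (comm_of_sq (inA_sq inA_c) (inA_sq inA_e) ?_)
    rw [← th_append, ← th_append]; exact th_rel (by decide +kernel)
  have hAC : A * C = C * A := S.C_comm inA_zero inA_c (by rw [th_one, th_one]; exact (comm_gen (by decide)).symm)
  have vac : V ψ [0, 4] = A * C := by rw [show ([0, 4] : List ℕ) = [0] ++ [4] from rfl, V_append, eA, eC]
  have vac' : V ψ [5, 1] = A * C := by
    rw [show ([5, 1] : List ℕ) = winv [0, 4] from rfl, V_winv, vac, mul_inv_rev, S.C_inv inA_c, S.C_inv inA_zero, hAC]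
  have hZX : Z⁻¹ * X = X * F * Z⁻¹ := by
    have h := g.conj 4 (by norm_num)
    simp only [kgW, kpW, List.getD_cons_zero, List.getD_cons_succ] at h
    rw [eX, show ([8, 3, 5, 1, 3] : List ℕ) = [8] ++ [3, 5, 1, 3] from rfl, V_append, eE, eX] at h
    have hFX : F * X = X * F := by
      have e3 := S.conj_C inX Z⁻¹
      rw [inv_inv, h] at e3
      have hsq : F * X * (F * X) = 1 := by
        rw [e3]; exact S.C_sq (inX.conj _)
      exact comm_of_sq (S.C_sq inA_e) hX2 hsq
    rw [← hFX, ← h]; group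
  set J := Z * D * Z⁻¹ with hJd
  have hJ : J ∈ Can S.A := can_conj (S.C_spec inA_d).1 Z
  have hJ' : Z⁻¹ * D * Z⁻¹ = A * C * J := by
    calc Z⁻¹ * D * Z⁻¹ = V ψ [5, 1] * Z * D * Z⁻¹ := by rw [← g.inv_eq']
      _ = _ := by rw [vac', hJd]; group
  set q := X * D * Z⁻¹ * D * X * (X * D * Z⁻¹ * D)⁻¹ with hqd
  have hq : q ∈ Can S.A := can_conj (S.C_spec inX).1 _
  set D' := A * C * D * (A * C)⁻¹ with hD'd
  have hD' : D' ∈ Can S.A := can_conj (S.C_spec inA_d).1 _
  have hAE : A * F ∈ Can S.A := by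
    rw [hAd, hFd, N.tri_ae.2.2.2]; exact (S.C_spec N.tri_ae.2.2.1).1
  have hk' := N.ext.comm hk
  have hval : wv ψ Z rel33 = q * (A * F) * (D' * J) := by
    have hQ : wv ψ Z [7, 15, 6] = D * Z⁻¹ * D := by
      rw [show ([7, 15, 6] : List ℕ) = [7] ++ [15] ++ [6] from rfl, wv_append, wv_append, wv_fifteen,
        wv_low ψ Z (w := [7]) (by simp), wv_low ψ Z (w := [6]) (by simp), v7, eD]
    have hQ' : wv ψ Z [7, 14, 6] = D * Z * D := by
      rw [show ([7, 14, 6] : List ℕ) = [7] ++ [14] ++ [6] from rfl, wv_append, wv_append, wv_fourteen,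
        wv_low ψ Z (w := [7]) (by simp), wv_low ψ Z (w := [6]) (by simp), v7, eD]
    have hX' : wv ψ Z [3, 5, 1, 2] = X ∧ wv ψ Z [3, 0, 4, 2] = X := by
      rw [wv_low ψ Z (w := [3, 5, 1, 2]) (by simp), wv_low ψ Z (w := [3, 0, 4, 2]) (by simp),
        V_same ψ (u := [3, 5, 1, 2]) (v := [3, 5, 1, 3]) (by decide +kernel),
        V_same ψ (u := [3, 0, 4, 2]) (v := [3, 5, 1, 3]) (by decide +kernel)]
      exact ⟨eX, eX⟩
    have e : wv ψ Z rel33 = D * Z⁻¹ * D * X * (D * Z * D) * X * (C * F) * (D * Z⁻¹ * D) * (X * F * Z⁻¹) := by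
      rw [show rel33 = [7, 15, 6] ++ [3, 5, 1, 2] ++ [7, 14, 6] ++ [3, 0, 4, 2] ++ [5, 9] ++ [7, 15, 6] ++
        [3, 5, 1, 2] ++ [9] ++ [15] from rfl]
      simp only [wv_append, hQ, hQ', hX'.1, hX'.2, wv_fifteen]
      rw [wv_low ψ Z (w := [5, 9]) (by simp), wv_low ψ Z (w := [9]) (by simp), v59, v9]
      group
    rw [← hZX] at e
    have e2 : wv ψ Z rel33 = X * wv ψ Z rel33 * X := by rw [(hk' X).eq, mul_assoc, hX2, mul_one]
    rw [e2, e]
    calc X * (D * Z⁻¹ * D * X * (D * Z * D) * X * (C * F) * (D * Z⁻¹ * D) * (Z⁻¹ * X)) * X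
        = X * D * Z⁻¹ * D * X * (D * Z * D) * X * (C * F) * D * (Z⁻¹ * D * Z⁻¹) * (X * X) := by group
      _ = X * D * Z⁻¹ * D * X * (D * Z * D) * X * (C * F) * D * (A * C * J) := by rw [hJ', hX2, mul_one]
      _ = q * (C * F * (A * C) * ((A * C)⁻¹ * D * (A * C)) * J) := by
        rw [hqd]
        have hDi : D⁻¹ = D := inv_eq_of_mul_eq_one_right hD2
        simp only [mul_inv_rev, hDi, inv_eq_of_mul_eq_one_right hX2, inv_inv]
        group
      _ = q * (A * F * D' * J) := by
        have hi : (A * C)⁻¹ = A * C := by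
          rw [mul_inv_rev, inv_eq_of_mul_eq_one_right hC2, inv_eq_of_mul_eq_one_right hA2, hAC]
        have h1 : C * F * (A * C) = A * F := by
          calc C * F * (A * C) = F * C * (C * A) := by rw [hCF, hAC]
            _ = F * (C * C) * A := by group
            _ = A * F := by
              rw [hC2, mul_one]
              exact (comm_of_sq hA2 (S.C_sq inA_e) hAF).symm
        rw [h1, hi]; rw [hD'd, hi]
      _ = _ := by group
  have hJD : σ (J * D') ^ 3 = 1 := by
    have e : σ (J * D') = th [14, 6, 15, 0, 4, 6, 5, 1] := by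
      rw [hJd, hD'd, hAd, hCd, hDd]
      simp only [map_mul, map_inv, mul_inv_rev, hZ, S.map_C inA_d, S.map_C inA_zero, S.map_C inA_c]
      simp only [th, List.map_cons, List.map_nil, List.prod_cons, List.prod_nil, mul_one,
        show thL 15 = (thL 14)⁻¹ from ThPres.thL_flp 14, show thL 5 = (thL 4)⁻¹ from ThPres.thL_flp 4,
        show thL 1 = (thL 0)⁻¹ from ThPres.thL_flp 0, mul_assoc]
    rw [e, ← eq_Jd]
    simp [th, pow_succ, mul_assoc]
  have hR : σ (D' * J) ^ 3 = 1 := by
    have : σ (D' * J) = (σ (J * D'))⁻¹ := by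
      rw [← map_inv, mul_inv_rev, can_inv S.sq hJ, can_inv S.sq hD']
    rw [this, inv_pow, hJD, inv_one]
  have hP : σ (q * (A * F)) ^ 3 = 1 := by
    have : σ (q * (A * F)) = (σ (D' * J))⁻¹ := by
      refine eq_inv_of_mul_eq_one_left ?_
      rw [← map_mul, ← hval, hk]
    rw [this, inv_pow, hR, inv_one]
  have P3 := S.odd_pow hq hAE (m := 1) hP
  have R3 := S.odd_pow hD' hJ (m := 1) hR
  rw [show q * (A * F) = wv ψ Z rel33 * (D' * J)⁻¹ by rw [hval, mul_inv_cancel_right],
    ((hk' (D' * J)⁻¹).symm).mul_pow, inv_pow, R3, inv_one, mul_one] at P3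
  exact N.ext.triv hk P3 (by rw [hp]; decide)

theorem rel38_one (g : Good ψ Z) : wv ψ Z rel38 = 1 := by
  have hr : relWords.contains rel38 = true := by decide +kernel
  have hk := wv_ker hψ hZ hr
  rcases ne_or_eq p 2 with hp | hp
  · have t : turns38 = [turns38.getD 0 [], turns38.getD 1 [], turns38.getD 2 [], turns38.getD 3 []] := by
      decide +kernel
    obtain ⟨e, hc⟩ := turns_eq N hψ hZ g hr (i := 3) (As := turns38) (by decide +kernel)
    rw [t] at e hc
    refine N.ext.odd_case hp hk ?_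
    rw [sq, ← e]
    exact g.reflect hc (vs := refl38) (Or.inl (by decide +kernel)) (by decide +kernel)
  let x : List ℕ := [6, 11, 11, 14, 10, 10]
  have hred : ThPres.red rel38 = ThPres.red (x ++ x ++ (x ++ x) ++ winv rhsDu) := by decide +kernel
  rw [← wv_red, hred, wv_red, wv_append, wv_append, mul_eq_one_iff_eq_inv]
  obtain ⟨eV, -⟩ := hψ.V_conj (x := 6) (g := vConj) (w := rhsDu) (by decide) (by decide +kernel)
  have hlt : ∀ k ∈ winv rhsDu, k < 14 := by decide +kernel
  rw [wv_low ψ Z hlt, V_winv, inv_inv, eV]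
  have hi2 := inA_sq inA_iDu
  have hj : InA (th (iDu ++ (x ++ x))) := inA_jDu
  have himg : σ (wv ψ Z (x ++ x)) = σ (S.C (th iDu) * S.C (th (iDu ++ (x ++ x)))) := by
    rw [map_mul, S.map_C inA_iDu, S.map_C hj, th_append, map_wv hψ hZ, ← mul_assoc, hi2, one_mul]
  rw [N.ext.sq_eq hp himg]
  refine S.sq_of_tri inA_iDu N.tri_du ?_
  rw [th_append, ← mul_assoc (th iDu) (th iDu), hi2, one_mul, ← th_append]
  have e := th_rel hr
  rw [← th_red, hred, th_red, th_append, th_winv, mul_inv_eq_one] at e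
  exact e

theorem rel36_pow (g : Good ψ Z) (hp : p ≠ 2) : wv ψ Z rel36 = 1 := by
  have hr : relWords.contains rel36 = true := by decide +kernel
  obtain ⟨e, hc⟩ := turns_eq N hψ hZ g hr (i := 3) (As := turns36) (by decide +kernel)
  have h4 := tetrahedron g hc
  rw [e] at h4
  refine N.ext.odd_case hp (wv_ker hψ hZ hr) ?_
  refine N.ext.odd_case hp (by rw [map_pow, wv_ker hψ hZ hr, one_pow]) ?_
  rw [← pow_mul]
  exact h4

theorem rel37_one (g : Good ψ Z) (h36 : wv ψ Z rel36 = 1) : wv ψ Z rel37 = 1 := by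
  obtain ⟨e, -⟩ := turns_eq N hψ hZ g (r := rel36) (i := 3) (As := turns36) (by decide +kernel) (by decide +kernel)
  obtain ⟨e', -⟩ := turns_eq N hψ hZ g (r := rel37) (i := 3) (As := turns37) (by decide +kernel) (by decide +kernel)
  rw [← e', collapse37 g (e.trans h36)]

end CfsgLib.Sporadic.ThMult
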