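import Cfsg.Agent.Lib.Sporadic.ThMult.Long
import Cfsg.Agent.Lib.Sporadic.MultiplierEngine
import Cfsg.Agent.Lib.Schur.CentralLift

/-!
# The Schur multiplier of the presented Thompson group is trivial (owner: helper21)
-/

set_option autoImplicit false
set_option maxRecDepth 20000
set_option linter.unusedSectionVars false

namespace CfsgLib.Sporadic.ThMult

open Cfsg CfsgLib.Sporadic
open CfsgLib.Sporadic.ThPres (thL relWords words27 P0 L code lettersOf)
open CfsgLib.Sporadic.PairEnum (winv)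

variable {Γ : Type*} [Group Γ] {σ : Γ →* Spor.Th} {p : ℕ}

/-- The relators with the last generator. -/
def highRels : List (List ℕ) := [[14, 14, 5, 1], [15, 1, 14, 0], [15, 5, 14, 4], [15, 9, 14, 8], rel31,
  [15, 3, 5, 1, 2, 14, 3, 0, 4, 2, 9], rel33, [15, 12, 14, 12], [9, 11, 11, 15, 10, 10, 8, 11, 11, 14, 10, 10],
  rel36, rel37, rel38]

theorem rels_split : relWords.all (fun w => words27.contains w || highRels.contains w) = true := by decide +kernel

variable {ψ : P0 →* Γ} {Z : Γ}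

theorem Good.conj_rel (g : Good ψ Z) {a b c v : List ℕ} (hlt : (a ++ b ++ c).all (fun k => Nat.blt k 14) = true)
    (hv : small v = true) (h1 : same b (kap v) = true) (h2 : same (a ++ pik v ++ c) [] = true) :
    wv ψ Z (a ++ [15] ++ b ++ [14] ++ c) = 1 := by
  simp only [List.all_append, Bool.and_eq_true, List.all_eq_true, Nat.blt_eq] at hlt
  rw [wv_append, wv_append, wv_append, wv_append, wv_fifteen, wv_fourteen, wv_low ψ Z hlt.1.1, wv_low ψ Z hlt.1.2,
    wv_low ψ Z hlt.2, V_same ψ h1]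
  calc V ψ a * Z⁻¹ * V ψ (kap v) * Z * V ψ c = V ψ a * Z⁻¹ * (V ψ (kap v) * Z) * V ψ c := by group
    _ = V ψ a * V ψ (pik v) * V ψ c := by rw [g.move hv]; group
    _ = 1 := by rw [← V_append, ← V_append, V_same ψ h2, V_nil]

theorem rels_one {S : Sect σ a0} {T : Γ} (N : Norm σ p S) (hψ : Low S T ψ) (hZ : σ Z = thL 14)
    (g : Good ψ Z) (h36 : wv ψ Z rel36 = 1) : ∀ w ∈ relWords, wv ψ Z w = 1 := by
  intro w hw
  have h := List.all_eq_true.1 rels_split w hw
  rw [Bool.or_eq_true, List.contains_iff_mem, List.contains_iff_mem] at h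
  rcases h with h | h
  · rw [wv_low ψ Z fun k hk => by simpa using List.all_eq_true.1 (List.all_eq_true.1 ThPres.words27_lt w h) k hk,
      V, ThPres.L_rel h, map_one]
  simp only [highRels, List.mem_cons, List.not_mem_nil, or_false] at h
  rcases h with rfl | rfl | rfl | rfl | rfl | rfl | rfl | rfl | rfl | rfl | rfl | rfl
  · rw [show ([14, 14, 5, 1] : List ℕ) = [14] ++ [14] ++ winv [0, 4] from rfl, wv_append, wv_append, wv_fourteen,
      wv_low ψ Z (w := winv [0, 4]) (by decide +kernel), V_winv, g.sq, mul_inv_cancel]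
  · exact g.conj_rel (a := []) (b := [1]) (c := [0]) (v := [0]) (by decide +kernel) (by decide +kernel)
      (by decide +kernel) (by decide +kernel)
  · exact g.conj_rel (a := []) (b := [5]) (c := [4]) (v := [1]) (by decide +kernel) (by decide +kernel)
      (by decide +kernel) (by decide +kernel)
  · exact g.conj_rel (a := []) (b := [9]) (c := [8]) (v := [2]) (by decide +kernel) (by decide +kernel)
      (by decide +kernel) (by decide +kernel)
  · exact rel31_one N hψ hZ g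
  · exact g.conj_rel (a := []) (b := [3, 5, 1, 2]) (c := [3, 0, 4, 2, 9]) (v := [4]) (by decide +kernel)
      (by decide +kernel) (by decide +kernel) (by decide +kernel)
  · exact rel33_one N hψ hZ g
  · exact g.conj_rel (a := []) (b := [12]) (c := [12]) (v := [3]) (by decide +kernel) (by decide +kernel)
      (by decide +kernel) (by decide +kernel)
  · exact g.conj_rel (a := [9, 11, 11]) (b := [10, 10, 8, 11, 11]) (c := [10, 10]) (v := [5]) (by decide +kernel)
      (by decide +kernel) (by decide +kernel) (by decide +kernel)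
  · exact h36
  · exact rel37_one N hψ hZ g h36
  · exact rel38_one N hψ hZ g

theorem rel36_shift {S : Sect σ a0} {T : Γ} (N : Norm σ p S) (hψ : Low S T ψ) {U : Γ} (hU : σ U = thL 14)
    (hp : p = 2) : ∃ w, σ w = 1 ∧ w * w = 1 ∧ wv ψ (U * w) rel36 = 1 := by
  set k := wv ψ U rel36 with hk
  have hk1 : σ k = 1 := wv_ker hψ hU (by decide +kernel)
  have hk2 : k * k = 1 := by rw [← sq, ← hp, N.ext.exp k hk1]
  refine ⟨k, hk1, hk2, ?_⟩
  have e : ∀ Y : Γ, wv ψ Y rel36 = V ψ [0, 4, 11] * Y⁻¹ * V ψ [11] * Y⁻¹ * V ψ [11] * Y⁻¹ := fun Y => by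
    rw [show rel36 = [0, 4, 11] ++ [15] ++ [11] ++ [15] ++ [11] ++ [15] from rfl]
    simp only [wv_append, wv_fifteen]
    rw [wv_low ψ Y (w := [0, 4, 11]) (by simp), wv_low ψ Y (w := [11]) (by simp)]
  have hc := N.ext.comm hk1
  rw [e, mul_inv_rev, inv_eq_of_mul_eq_one_right hk2]
  have hl : ∀ x y : Γ, x * (k * y) = k * (x * y) := fun x y => by rw [← mul_assoc, (hc x).eq, mul_assoc]
  have hcancel : ∀ y : Γ, k * (k * y) = y := fun y => by rw [← mul_assoc, hk2, one_mul]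
  simp only [mul_assoc]
  rw [hl (V ψ [11]) U⁻¹, hl U⁻¹ (V ψ [11] * U⁻¹), hl (V ψ [11]) (k * (U⁻¹ * (V ψ [11] * U⁻¹))),
    hl U⁻¹ (V ψ [11] * (k * (U⁻¹ * (V ψ [11] * U⁻¹)))), hcancel, hl (V ψ [11]) (U⁻¹ * (V ψ [11] * U⁻¹)),
    hl U⁻¹ (V ψ [11] * (U⁻¹ * (V ψ [11] * U⁻¹))), hl (V ψ [0, 4, 11])]
  have e' : V ψ [0, 4, 11] * (U⁻¹ * (V ψ [11] * (U⁻¹ * (V ψ [11] * U⁻¹)))) = k := by
    rw [hk, e]; group
  rw [e', hk2]

/-- The extension has a section. -/
theorem exists_section (E : Ext σ p) : ∃ s : Spor.Th →* Γ, ∀ x, σ (s x) = x := by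
  obtain ⟨S, N⟩ := exists_norm E
  obtain ⟨T, hT, hT3, hTU⟩ := exists_liftT N
  let ψ := psi N hT hT3
  have hψ : Low S T ψ := ⟨psi_comp N hT hT3, fun k hk => psi_L N hT hT3 hk⟩
  obtain ⟨Z, hZ, g, h36⟩ : ∃ Z : Γ, σ Z = thL 14 ∧ Good ψ Z ∧ wv ψ Z rel36 = 1 := by
    rcases eq_or_ne p 2 with hp | hp
    · obtain ⟨w, hw, hw2, h⟩ := rel36_shift N hψ (map_liftU S) hp
      exact ⟨_, map_U hw, good N hψ hTU hw hw2, h⟩
    · have g := good N hψ hTU (map_one σ) (mul_one 1)
      exact ⟨_, map_U (map_one σ), g, rel36_pow N hψ (map_U (map_one σ)) g hp⟩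
  have hrels := rels_one N hψ hZ g h36
  let f : Spor.Th.Gen → Γ := fun x => lv ψ Z (code (x, true))
  have hf : ∀ r ∈ Spor.coxRelators Spor.Th.edges ∪ {r | r ∈ Spor.Th.extra}, FreeGroup.lift f r = 1 := by
    rintro r (⟨x, hx, -⟩ | hr)
    · simp [Spor.coxNodes, Spor.Th.edges] at hx
    rw [ThPres.Rep.hom_eq_prod (FreeGroup.lift f) (lv ψ Z) (fun x => FreeGroup.lift_apply_of)
      (fun x => by rw [← lv_flp]; congr 1; cases x <;> rfl)]
    exact hrels _ (by rw [← ThPres.relWords_eq]; exact List.mem_map_of_mem hr)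
  refine ⟨PresentedGroup.toGroup hf, fun x => DFunLike.congr_fun (PresentedGroup.ext
    (φ := σ.comp (PresentedGroup.toGroup hf)) (ψ := MonoidHom.id Spor.Th) fun y => ?_) x⟩
  rw [MonoidHom.comp_apply, PresentedGroup.toGroup.of, MonoidHom.id_apply]
  have e := map_wv hψ hZ [code (y, true)]
  rw [th_one, ThPres.thL_code] at e
  simpa [wv] using e

theorem prime_case [Finite Γ] (hσ : Cfsg.IsStemExtension σ) (hp : p.Prime) (he : ∀ c ∈ σ.ker, c ^ p = 1) :
    σ.ker = ⊥ := by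
  obtain ⟨s, hs⟩ := exists_section (σ := σ) ⟨hσ.1, hσ.2.1, hp, he⟩
  have htop : s.range = ⊤ := CfsgLib.Schur.eq_top_of_stem σ hσ _ (by
    rw [eq_top_iff]
    exact fun j _ => ⟨s j, ⟨j, rfl⟩, hs j⟩)
  rw [Subgroup.eq_bot_iff_forall]
  intro z hz
  obtain ⟨j, rfl⟩ : z ∈ s.range := htop ▸ Subgroup.mem_top z
  rw [MonoidHom.mem_ker, hs] at hz
  rw [hz, map_one]

theorem multiplier_trivial [Finite Spor.Th] : Cfsg.HasCyclicSchurMultiplier Spor.Th 1 := by
  refine CfsgLib.Schur.hasCyclicSchurMultiplier_one_of_forall fun Γ _ _ σ hσ =>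
    (Subgroup.eq_bot_iff_forall _).2 fun z hz => ?_
  rw [← orderOf_eq_one_iff]
  by_contra hne
  obtain ⟨r, hr, hrz⟩ := Nat.exists_prime_and_dvd hne
  have := Fact.mk hr
  refine Mult.kills_prime σ hσ r (fun Δ _ _ τ hτ he => ?_) hz hrz
  refine ⟨⊤, by rw [Subgroup.index_top]; exact hr.not_dvd_one, fun z _ hk _ => ?_⟩
  rw [prime_case hτ hr he] at hk
  exact hk

end CfsgLib.Sporadic.ThMult
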