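import Cfsg.Agent.Lib.Sporadic.ThMult.Conj

/-!
# Moving the lift of `u` through the lifts of the 3D4(2):3 part (owner: helper21)

A turn is a word of the 3D4(2):3 part after one lift `Z` of `u`. Seven special elements are carried by `Z` to
known elements; this rewrites turns.
-/

set_option autoImplicit false
set_option maxRecDepth 20000
set_option linter.unusedSectionVars false

namespace CfsgLib.Sporadic.ThMult

open Cfsg CfsgLib.Sporadic
open CfsgLib.Sporadic.ThPres (P0 L L_flp)
open CfsgLib.Sporadic.PairEnum (winv)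

/-- The seven special elements. -/
def kgW : List (List ℕ) := [[0], [4], [8], [12], [3, 5, 1, 3], [10, 10, 8, 11, 11],
  [6, 11, 11, 8, 6, 11, 8, 10, 10, 4, 6, 4, 8, 6, 4, 10, 8, 6, 4, 11, 11, 8, 11]]

/-- Their conjugates. -/
def kpW : List (List ℕ) := [[0], [4], [8], [13], [8, 3, 5, 1, 3], [10, 10, 8, 11, 11], [6, 4, 7]]

/-- A word in the special elements. -/
def kap (r : List ℕ) : List ℕ := r.flatMap fun i => kgW.getD i []

/-- The conjugate of such a word. -/
def pik (r : List ℕ) : List ℕ := r.flatMap fun i => kpW.getD i []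

/-- A turn backwards. -/
noncomputable def back (A : List ℕ) : List ℕ := [5, 1] ++ winv A

/-- The indices of special elements are small. -/
def small (r : List ℕ) : Bool := r.all fun i => Nat.blt i 7

/-- Two cycles of turns agree up to the special elements. -/
noncomputable def equivB : List (List ℕ) → List (List ℕ) → List (List ℕ) → Bool
  | A :: As, B :: Bs, v :: v' :: vs => small v && same (B ++ kap v') (pik v ++ A) && equivB As Bs (v' :: vs)
  | [], [], [_] => true
  | _, _, _ => false

/-- A step of a collapse: which triangle, and the special elements around it. -/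
abbrev Step : Type := Bool × List ℕ × List ℕ

/-- The first turn of a triangle. -/
def triA (T0 T1 : List (List ℕ)) (o : Bool) : List ℕ := (if o then T1 else T0).getD 0 []

/-- What stands to the left after a triangle is used. -/
noncomputable def triP (T0 T1 : List (List ℕ)) (o : Bool) : List ℕ := winv ((if o then T1 else T0).getD 2 [])

/-- What stands to the right after a triangle is used. -/
noncomputable def triQ (T0 T1 : List (List ℕ)) (o : Bool) : List ℕ := back ((if o then T1 else T0).getD 1 [])

/-- Collapsing a cycle by triangles down to two turns. -/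
noncomputable def collapseB (T0 T1 : List (List ℕ)) : List (List ℕ) → List Step → Bool
  | [x, y], [(_, v, _)] => small v && same x (kap v) && same ([0, 4] ++ pik v ++ y) []
  | x :: y :: z :: rest, (o, v, w) :: more =>
    small (v ++ w) && same x (kap v ++ triA T0 T1 o ++ kap w) &&
      collapseB T0 T1 ((triQ T0 T1 o ++ pik w ++ y) :: ((z :: rest).dropLast ++
        [(z :: rest).getLast (List.cons_ne_nil _ _) ++ [0, 4] ++ pik v ++ [5, 1] ++ triP T0 T1 o])) more
  | _, _ => false

/-- A word with each inverse of `u` replaced. -/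
def expand (r : List ℕ) : List ℕ := r.flatMap fun k => if k = 15 then [14, 5, 1] else [k]

/-- A relator is a cycle of turns, read from some place. -/
def turnsB (r : List ℕ) (i : ℕ) (As : List (List ℕ)) : Bool :=
  decide ((expand r).drop i ++ (expand r).take i = As.flatMap fun A => 14 :: A) &&
    As.all fun A => A.all fun k => Nat.blt k 14

variable {Γ : Type*} [Group Γ] (ψ : P0 →* Γ) (Z : Γ)

/-- A word of the 3D4(2):3 part in the extension. -/
noncomputable def V (w : List ℕ) : Γ := ψ (w.map L).prod

theorem V_append (u v : List ℕ) : V ψ (u ++ v) = V ψ u * V ψ v := by simp [V]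

theorem V_nil : V ψ [] = 1 := by simp [V]

theorem V_winv (w : List ℕ) : V ψ (winv w) = (V ψ w)⁻¹ := by rw [V, PairEnum.prod_winv L_flp, map_inv, V]

theorem V_same {u v : List ℕ} (h : same u v = true) : V ψ u = V ψ v := congrArg ψ (same_ev h).2.2

/-- A letter in the extension. -/
noncomputable def lv (k : ℕ) : Γ := if k = 14 then Z else if k = 15 then Z⁻¹ else ψ (L k)

theorem lv_flp (k : ℕ) : lv ψ Z (PairEnum.flp k) = (lv ψ Z k)⁻¹ := by
  by_cases h : k = 14
  · subst h; simp [lv, PairEnum.flp]
  by_cases h' : k = 15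
  · subst h'; simp [lv, PairEnum.flp]
  have hne : PairEnum.flp k ≠ 14 ∧ PairEnum.flp k ≠ 15 := by
    have h1 := ThPres.flp_half k
    have h2 := ThPres.flp_mod k
    omega
  rw [lv, lv, if_neg hne.1, if_neg hne.2, if_neg h, if_neg h', L_flp, map_inv]

/-- A word in the extension. -/
noncomputable def wv (w : List ℕ) : Γ := (w.map (lv ψ Z)).prod

theorem wv_append (u v : List ℕ) : wv ψ Z (u ++ v) = wv ψ Z u * wv ψ Z v := by simp [wv]

theorem wv_low {w : List ℕ} (hw : ∀ k ∈ w, k < 14) : wv ψ Z w = V ψ w := by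
  rw [V, map_list_prod, List.map_map]
  refine congrArg List.prod (List.map_congr_left fun k hk => ?_)
  have := hw k hk
  rw [Function.comp_apply, lv, if_neg (by omega), if_neg (by omega)]

theorem wv_fourteen : wv ψ Z [14] = Z := by simp [wv, lv]

theorem wv_fifteen : wv ψ Z [15] = Z⁻¹ := by simp [wv, lv]

theorem wv_red (w : List ℕ) : wv ψ Z (ThPres.red w) = wv ψ Z w := ThPres.prod_red (lv_flp ψ Z) w

/-- The product over the turns of a closed walk. -/
noncomputable def cyc (As : List (List ℕ)) : Γ := (As.map fun A => Z * V ψ A).prod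

theorem cyc_cons (A : List ℕ) (As : List (List ℕ)) : cyc ψ Z (A :: As) = Z * V ψ A * cyc ψ Z As := by simp [cyc]

theorem cyc_append (As Bs : List (List ℕ)) : cyc ψ Z (As ++ Bs) = cyc ψ Z As * cyc ψ Z Bs := by simp [cyc]

theorem cyc_nil : cyc ψ Z [] = 1 := by simp [cyc]

/-- The rules for moving `Z`. -/
structure Good : Prop where
  sq : Z * Z = V ψ [0, 4]
  conj : ∀ i < 7, Z⁻¹ * V ψ (kgW.getD i []) * Z = V ψ (kpW.getD i [])

variable {ψ Z}

namespace Good

variable (g : Good ψ Z)
include g

theorem inv_eq : Z⁻¹ = Z * V ψ [5, 1] := by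
  rw [show ([5, 1] : List ℕ) = winv [0, 4] from rfl, V_winv, ← g.sq]; group

theorem inv_eq' : Z⁻¹ = V ψ [5, 1] * Z := by
  rw [show ([5, 1] : List ℕ) = winv [0, 4] from rfl, V_winv, ← g.sq]; group

theorem move : ∀ {r : List ℕ}, small r = true → V ψ (kap r) * Z = Z * V ψ (pik r)
  | [], _ => by simp [kap, pik, V_nil]
  | i :: r, h => by
    simp only [small, List.all_cons, Bool.and_eq_true, Nat.blt_eq] at h
    have e : V ψ (kgW.getD i []) * Z = Z * V ψ (kpW.getD i []) := by rw [← g.conj i h.1]; group
    rw [show kap (i :: r) = kgW.getD i [] ++ kap r from rfl, show pik (i :: r) = kpW.getD i [] ++ pik r from rfl,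
      V_append, V_append, mul_assoc, move (r := r) h.2, ← mul_assoc, e, mul_assoc]

theorem equiv_sound : ∀ {As Bs vs : List (List ℕ)}, equivB As Bs vs = true →
    cyc ψ Z Bs * V ψ (kap (vs.getLastD [])) = V ψ (kap (vs.headD [])) * cyc ψ Z As
  | [], [], [v], _ => by simp [cyc_nil]
  | A :: As, B :: Bs, v :: v' :: vs, h => by
    simp only [equivB, Bool.and_eq_true] at h
    have ih := equiv_sound h.2
    have e := V_same ψ h.1.2
    rw [V_append, V_append] at e
    rw [cyc_cons, cyc_cons, show (v :: v' :: vs).getLastD [] = (v' :: vs).getLastD [] from rfl, mul_assoc, ih]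
    calc Z * V ψ B * (V ψ (kap ((v' :: vs).headD [])) * cyc ψ Z As)
        = Z * (V ψ B * V ψ (kap v')) * cyc ψ Z As := by simp only [List.headD_cons, mul_assoc]
      _ = V ψ (kap v) * Z * V ψ A * cyc ψ Z As := by rw [e, g.move h.1.1]; group
      _ = _ := by simp only [List.headD_cons, mul_assoc]

/-- Equivalent cycles have equal products, when central. -/
theorem equiv_eq {As Bs vs : List (List ℕ)} (h : equivB As Bs vs = true)
    (hc : same (kap (vs.getLastD [])) (kap (vs.headD [])) = true) (hk : ∀ x : Γ, Commute x (cyc ψ Z As)) :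
    cyc ψ Z Bs = cyc ψ Z As := by
  have e := g.equiv_sound h
  rw [V_same ψ hc, (hk _).eq] at e
  exact mul_right_cancel e

theorem back_eq (A : List ℕ) : Z * V ψ (back A) = Z⁻¹ * (V ψ A)⁻¹ := by
  rw [back, V_append, V_winv, g.inv_eq, mul_assoc]

theorem cyc_back_four {A B C D : List ℕ} (hk : ∀ x : Γ, Commute x (cyc ψ Z [A, B, C, D])) :
    cyc ψ Z [back C, back B, back A, back D] = (cyc ψ Z [A, B, C, D])⁻¹ := by
  calc cyc ψ Z [back C, back B, back A, back D]
      = V ψ D * (cyc ψ Z [A, B, C, D])⁻¹ * (V ψ D)⁻¹ := by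
        simp only [cyc_cons, cyc_nil, g.back_eq, mul_one]; group
    _ = _ := by rw [((hk (V ψ D)).inv_right).eq, mul_inv_cancel_right]

theorem cyc_back_three {A B C : List ℕ} (hk : ∀ x : Γ, Commute x (cyc ψ Z [A, B, C])) :
    cyc ψ Z [back B, back A, back C] = (cyc ψ Z [A, B, C])⁻¹ := by
  calc cyc ψ Z [back B, back A, back C]
      = V ψ C * (cyc ψ Z [A, B, C])⁻¹ * (V ψ C)⁻¹ := by
        simp only [cyc_cons, cyc_nil, g.back_eq, mul_one]; group
    _ = _ := by rw [((hk (V ψ C)).inv_right).eq, mul_inv_cancel_right]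

theorem base {A B C : List ℕ} {k : Γ} (he : cyc ψ Z [A, B, C] = k) (hk : ∀ x : Γ, Commute x k) :
    Z * V ψ A * Z = V ψ (winv C) * Z * V ψ (back B) * k := by
  rw [mul_assoc (V ψ (winv C)) Z, g.back_eq, V_winv, mul_assoc, (hk _).eq, ← he]
  simp only [cyc_cons, cyc_nil, mul_one]
  group

/-- Using a triangle around special elements. -/
theorem moved {A P Q x v w : List ℕ} {k : Γ} (hk : ∀ y : Γ, Commute y k)
    (hb : Z * V ψ A * Z = V ψ P * Z * V ψ Q * k) (hvw : small (v ++ w) = true)
    (hx : same x (kap v ++ A ++ kap w) = true) :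
    Z * V ψ x * Z = V ψ ([0, 4] ++ pik v ++ [5, 1] ++ P) * Z * V ψ (Q ++ pik w) * k := by
  simp only [small, List.all_append, Bool.and_eq_true] at hvw
  have hv := g.move (r := v) hvw.1
  have hU : V ψ [0, 4] = Z * Z := g.sq.symm
  have hUi : V ψ [5, 1] = (Z * Z)⁻¹ := by rw [show ([5, 1] : List ℕ) = winv [0, 4] from rfl, V_winv, hU]
  calc Z * V ψ x * Z = Z * (V ψ (kap v) * Z) * Z⁻¹ * Z⁻¹ * (Z * V ψ A * (V ψ (kap w) * Z)) := by
        rw [V_same ψ hx, V_append, V_append]; group
    _ = Z * (Z * V ψ (pik v)) * Z⁻¹ * Z⁻¹ * (Z * V ψ A * Z * V ψ (pik w)) := by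
        rw [hv, g.move hvw.2]; group
    _ = V ψ [0, 4] * V ψ (pik v) * V ψ [5, 1] * V ψ P * Z * V ψ Q * (k * V ψ (pik w)) := by
        rw [hb, hU, hUi]; group
    _ = _ := by
        rw [← (hk _).eq]
        simp only [V_append]
        group

theorem collapse_sound {T0 T1 : List (List ℕ)}
    (hb : ∀ o, Z * V ψ (triA T0 T1 o) * Z = V ψ (triP T0 T1 o) * Z * V ψ (triQ T0 T1 o)) :
    ∀ {As : List (List ℕ)} {st : List Step}, collapseB T0 T1 As st = true → cyc ψ Z As = 1 := by
  intro As st
  induction st generalizing As with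
  | nil => rcases As with _ | ⟨x, _ | ⟨y, _ | ⟨z, r⟩⟩⟩ <;> simp [collapseB]
  | cons s more ih =>
    obtain ⟨o, v, w⟩ := s
    intro h
    rcases As with _ | ⟨x, _ | ⟨y, _ | ⟨z, r⟩⟩⟩
    · simp [collapseB] at h
    · simp [collapseB] at h
    · rcases more with _ | ⟨m, more⟩
      · simp only [collapseB, Bool.and_eq_true] at h
        simp only [cyc_cons, cyc_nil, mul_one]
        calc Z * V ψ x * (Z * V ψ y) = Z * (V ψ (kap v) * Z) * V ψ y := by rw [V_same ψ h.1.2]; group
          _ = Z * Z * V ψ (pik v) * V ψ y := by rw [g.move h.1.1]; group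
          _ = 1 := by rw [g.sq, ← V_append, ← V_append, V_same ψ h.2, V_nil]
      · simp [collapseB] at h
    · simp only [collapseB, Bool.and_eq_true] at h
      have e := ih h.2
      have hm := g.moved (k := 1) (fun y => Commute.one_right y) (by rw [mul_one]; exact hb o) h.1.1 h.1.2
      rw [mul_one] at hm
      rw [cyc_cons, cyc_append, cyc_cons, cyc_nil, mul_one] at e
      have hzr : cyc ψ Z (z :: r) = cyc ψ Z (z :: r).dropLast *
          (Z * V ψ ((z :: r).getLast (List.cons_ne_nil _ _))) := by
        conv_lhs => rw [← List.dropLast_append_getLast (List.cons_ne_nil z r)]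
        rw [cyc_append, cyc_cons, cyc_nil, mul_one]
      rw [cyc_cons, cyc_cons, hzr]
      set P' := [0, 4] ++ pik v ++ [5, 1] ++ triP T0 T1 o with hP
      have e2 : Z * V ψ (triQ T0 T1 o ++ pik w) * V ψ y * (cyc ψ Z (z :: r).dropLast *
          (Z * V ψ ((z :: r).getLast (List.cons_ne_nil _ _)))) * V ψ P' = 1 := by
        rw [← e, hP]; simp only [V_append]; group
      calc _ = Z * V ψ x * Z * (V ψ y * (cyc ψ Z (z :: r).dropLast *
            (Z * V ψ ((z :: r).getLast (List.cons_ne_nil _ _))))) := by group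
        _ = V ψ P' * (Z * V ψ (triQ T0 T1 o ++ pik w) * V ψ y * (cyc ψ Z (z :: r).dropLast *
            (Z * V ψ ((z :: r).getLast (List.cons_ne_nil _ _)))) * V ψ P') * (V ψ P')⁻¹ := by
          rw [hm]; group
        _ = 1 := by rw [e2, mul_one, mul_inv_cancel]

theorem wv_expand (r : List ℕ) : wv ψ Z (expand r) = wv ψ Z r := by
  induction r with
  | nil => rfl
  | cons k r ih =>
    rw [show expand (k :: r) = (if k = 15 then [14, 5, 1] else [k]) ++ expand r from rfl, wv_append, ih,
      show k :: r = [k] ++ r from rfl, wv_append]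
    congr 1
    split_ifs with h
    · rw [h, wv_fifteen, g.inv_eq, show ([14, 5, 1] : List ℕ) = [14] ++ [5, 1] from rfl, wv_append, wv_fourteen,
        wv_low ψ Z (w := [5, 1]) (by simp)]
    · rfl

theorem wv_flat : ∀ {As : List (List ℕ)}, (As.all fun A => A.all fun k => Nat.blt k 14) = true →
    wv ψ Z (As.flatMap fun A => 14 :: A) = cyc ψ Z As
  | [], _ => by simp [wv, cyc_nil]
  | A :: As, h => by
    simp only [List.all_cons, Bool.and_eq_true] at h
    rw [List.flatMap_cons, wv_append, wv_flat h.2, cyc_cons, show 14 :: A = [14] ++ A from rfl, wv_append,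
      wv_fourteen, wv_low ψ Z (by simpa using h.1)]

/-- A central relator equals its cycle of turns. -/
theorem cyc_of_turns {r : List ℕ} {i : ℕ} {As : List (List ℕ)} (h : turnsB r i As = true)
    (hk : ∀ x : Γ, Commute x (wv ψ Z r)) : cyc ψ Z As = wv ψ Z r := by
  simp only [turnsB, Bool.and_eq_true, decide_eq_true_eq] at h
  rw [← g.wv_flat h.2, ← h.1, wv_append]
  set a := wv ψ Z ((expand r).take i)
  set b := wv ψ Z ((expand r).drop i)
  have e : wv ψ Z r = a * b := by rw [← wv_append, List.take_append_drop, g.wv_expand]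
  rw [e] at hk ⊢
  calc b * a = a⁻¹ * (a * b) * a := by group
    _ = a * b := by rw [(hk a⁻¹).eq, inv_mul_cancel_right]

end Good

end CfsgLib.Sporadic.ThMult
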