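import Cfsg.Agent.Lib.Sporadic.ThMult.Canon

/-!
# A section over one class of involutions and what it forces (owner: helper21)
-/

set_option autoImplicit false
set_option linter.unusedSectionVars false

namespace CfsgLib.Sporadic.ThMult

variable {Γ G : Type*} [Group Γ] [Group G]

/-- A lift of `a` squaring to one, centralised over the centraliser of `a`. -/
structure Sect (σ : Γ →* G) (a : G) where
  /-- the lift -/
  A : Γ
  map : σ A = a
  sq : A * A = 1
  surj : Function.Surjective σ
  comm : ∀ g : Γ, σ g * a = a * σ g → g * A = A * g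

/-- Membership in a conjugacy class. -/
def InC (a j : G) : Prop := ∃ g : G, j = g * a * g⁻¹

theorem InC.conj {a j : G} (h : InC a j) (k : G) : InC a (k * j * k⁻¹) := by
  obtain ⟨g, rfl⟩ := h
  exact ⟨k * g, by group⟩

theorem InC.self (a : G) : InC a a := ⟨1, by group⟩

theorem InC.trans {a b j : G} (h : InC a b) (h' : InC b j) : InC a j := by
  obtain ⟨g, rfl⟩ := h'
  exact h.conj g

namespace Sect

variable {σ : Γ →* G} {a : G} (S : Sect σ a)

open Classical in
/-- The lift of an element of the class among the conjugates of the fixed lift. -/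
noncomputable def C (j : G) : Γ := if h : ∃ x ∈ Can S.A, σ x = j then h.choose else 1

theorem C_spec {j : G} (hj : InC a j) : S.C j ∈ Can S.A ∧ σ (S.C j) = j := by
  have h : ∃ x ∈ Can S.A, σ x = j := by
    obtain ⟨g, rfl⟩ := hj
    obtain ⟨k, rfl⟩ := S.surj g
    exact ⟨k * S.A * k⁻¹, ⟨k, rfl⟩, by rw [map_mul, map_mul, map_inv, S.map]⟩
  rw [C, dif_pos h]
  exact h.choose_spec

theorem map_C {j : G} (hj : InC a j) : σ (S.C j) = j := (S.C_spec hj).2

theorem unique {x y : Γ} (hx : x ∈ Can S.A) (hy : y ∈ Can S.A) (h : σ x = σ y) : x = y := by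
  obtain ⟨g, rfl⟩ := hx
  obtain ⟨k, rfl⟩ := hy
  simp only [map_mul, map_inv, S.map] at h
  have hc : σ (k⁻¹ * g) * a = a * σ (k⁻¹ * g) := by
    rw [map_mul, map_inv]
    calc (σ k)⁻¹ * σ g * a = (σ k)⁻¹ * (σ g * a * (σ g)⁻¹) * σ g := by group
      _ = _ := by rw [h]; group
  calc g * S.A * g⁻¹ = k * (k⁻¹ * g * S.A) * g⁻¹ := by group
    _ = _ := by rw [S.comm _ hc]; group

theorem inC_of_mem {x : Γ} (h : x ∈ Can S.A) : InC a (σ x) := by
  obtain ⟨g, rfl⟩ := h
  exact ⟨σ g, by rw [map_mul, map_mul, map_inv, S.map]⟩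

theorem eq_C {x : Γ} (hx : x ∈ Can S.A) : x = S.C (σ x) :=
  S.unique hx (S.C_spec (S.inC_of_mem hx)).1 (S.map_C (S.inC_of_mem hx)).symm

theorem C_self : S.C a = S.A := by
  have h := S.eq_C (can_self S.A)
  rw [S.map] at h
  exact h.symm

theorem C_sq {j : G} (hj : InC a j) : S.C j * S.C j = 1 := can_sq S.sq (S.C_spec hj).1

theorem C_inv {j : G} (hj : InC a j) : (S.C j)⁻¹ = S.C j := can_inv S.sq (S.C_spec hj).1

theorem conj_C {j : G} (hj : InC a j) (k : Γ) : k * S.C j * k⁻¹ = S.C (σ k * j * (σ k)⁻¹) := by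
  have h := S.eq_C (can_conj (S.C_spec hj).1 k)
  rwa [map_mul, map_mul, map_inv, S.map_C hj] at h

/-- A lift of an element carrying `i` to `j` carries the lift of `i` to the lift of `j`. -/
theorem move {i j : G} (hi : InC a i) {k : Γ} (h : σ k * i = j * σ k) : k * S.C i = S.C j * k := by
  have e := S.conj_C hi k
  rw [h, mul_inv_cancel_right] at e
  rw [← e]; group

/-- Commuting images have commuting lifts. -/
theorem C_comm {i j : G} (hi : InC a i) (hj : InC a j) (h : i * j = j * i) : S.C i * S.C j = S.C j * S.C i :=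
  S.move hj (by rw [S.map_C hi]; exact h)

/-- A product of two lifts whose image has odd order has the same order. -/
theorem odd_pow {x y : Γ} (hx : x ∈ Can S.A) (hy : y ∈ Can S.A) {m : ℕ} (h : σ (x * y) ^ (2 * m + 1) = 1) :
    (x * y) ^ (2 * m + 1) = 1 := by
  have hx2 := can_inv S.sq hx
  have hy2 := can_inv S.sq hy
  have einv : ((y * x) ^ m)⁻¹ = (x * y) ^ m := by rw [← inv_pow, mul_inv_rev, hx2, hy2]
  have hmove : ∀ n : ℕ, (y * x) ^ n * y = y * (x * y) ^ n := by
    intro n
    induction n with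
    | zero => simp
    | succ n ih => rw [pow_succ' (y * x), mul_assoc, ih, pow_succ' (x * y)]; simp only [mul_assoc]
  have hmem := can_conj hy ((y * x) ^ m)
  rw [einv, hmove, mul_assoc, ← pow_add] at hmem
  have e : x = y * (x * y) ^ (m + m) := by
    refine S.unique hx hmem ?_
    have h' : σ x * (σ y * σ ((x * y) ^ (m + m))) = 1 := by
      rw [← h, ← map_mul, ← map_mul, ← map_pow, show 2 * m + 1 = m + m + 1 by omega, pow_succ', ← mul_assoc]
    rw [map_mul, ← mul_eq_one_iff_inv_eq.1 h', ← map_inv, hx2]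
  calc (x * y) ^ (2 * m + 1) = x * (y * (x * y) ^ (m + m)) := by
        rw [show 2 * m + 1 = m + m + 1 by omega, pow_succ']; group
    _ = 1 := by rw [← e, can_sq S.sq hx]

/-- Two lifts whose product is the lift of the product. -/
def Tri (u v : G) : Prop := InC a u ∧ InC a v ∧ InC a (u * v) ∧ S.C u * S.C v = S.C (u * v)

theorem tri_conj {u v : G} (h : S.Tri u v) {u' v' g : G} (hu : g * u = u' * g) (hv : g * v = v' * g) :
    S.Tri u' v' := by
  obtain ⟨k, rfl⟩ := S.surj g
  obtain ⟨h1, h2, h3, h4⟩ := h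
  have eu : u' = σ k * u * (σ k)⁻¹ := by rw [hu, mul_inv_cancel_right]
  have ev : v' = σ k * v * (σ k)⁻¹ := by rw [hv, mul_inv_cancel_right]
  have euv : u' * v' = σ k * (u * v) * (σ k)⁻¹ := by rw [eu, ev]; group
  refine ⟨eu ▸ h1.conj _, ev ▸ h2.conj _, euv ▸ h3.conj _, ?_⟩
  rw [euv, ← S.conj_C h3, ← h4, eu, ev, ← S.conj_C h1, ← S.conj_C h2]
  group

/-- A square of a product of two lifts, from a commuting pair inside it. -/
theorem sq_of_tri {i j v : G} (hi : InC a i) (ht : S.Tri v j) (h : i * j * (i * j) = v) :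
    S.C i * S.C j * (S.C i * S.C j) = S.C v := by
  obtain ⟨h1, h2, h3, h4⟩ := ht
  have hjj : j * j = 1 := by rw [← S.map_C h2, ← map_mul, S.C_sq h2, map_one]
  have hii : i⁻¹ = i := inv_eq_of_mul_eq_one_right (by rw [← S.map_C hi, ← map_mul, S.C_sq hi, map_one])
  have himg : v * j = i * j * i⁻¹ := by rw [← h, hii]; rw [mul_assoc, mul_assoc, mul_assoc, mul_assoc, hjj, mul_one]
  have e : S.C i * S.C j * S.C i = S.C v * S.C j := by
    conv_lhs => enter [2]; rw [← S.C_inv hi]
    rw [h4, S.conj_C h2, S.map_C hi, himg]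
  calc S.C i * S.C j * (S.C i * S.C j) = S.C i * S.C j * S.C i * S.C j := by group
    _ = S.C v * (S.C j * S.C j) := by rw [e]; group
    _ = S.C v := by rw [S.C_sq h2, mul_one]

end Sect

namespace Ext

variable {σ : Γ →* G} {p : ℕ} (E : Ext σ p)
include E

/-- For exponent two the second kind of pair follows from the first on four lines of a group of order eight. -/
theorem tri_two {a : G} (S : Sect σ a) {u v x y : G} (hu : InC a u) (hv : InC a v)
    (huv : InC a (u * v)) (hax : a * x = x * a) (hay : a * y = y * a) (hxy : x * y = y * x) (ha : a * a = 1)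
    (t1 : S.Tri x y) (t2 : S.Tri x (a * y)) (t4 : S.Tri (a * x) (a * y)) (g : G) (gu : g * u = y * g)
    (gv : g * v = a * x * g) : S.Tri u v := by
  refine ⟨hu, hv, huv, ?_⟩
  obtain ⟨k, rfl⟩ := S.surj g
  have eu : y = σ k * u * (σ k)⁻¹ := by rw [gu, mul_inv_cancel_right]
  have ev : a * x = σ k * v * (σ k)⁻¹ := by rw [gv, mul_inv_cancel_right]
  have e3 : y * (a * x) = σ k * (u * v) * (σ k)⁻¹ := by rw [eu, ev]; group
  suffices h3 : S.C y * S.C (a * x) = S.C (y * (a * x)) by
    rw [e3, eu, ev, ← S.conj_C hu, ← S.conj_C hv, ← S.conj_C huv] at h3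
    calc S.C u * S.C v = k⁻¹ * (k * S.C u * k⁻¹ * (k * S.C v * k⁻¹)) * k := by group
      _ = _ := by rw [h3]; group
  obtain ⟨hx, hy, hxy', E1⟩ := t1
  obtain ⟨-, hay', haxy, E2⟩ := t2
  obtain ⟨hax', -, h4', E4⟩ := t4
  have i2 : x * (a * y) = y * (a * x) := by
    calc x * (a * y) = (x * a) * y := (mul_assoc _ _ _).symm
      _ = a * (x * y) := by rw [← hax]; group
      _ = (a * y) * x := by rw [hxy]; group
      _ = y * (a * x) := by rw [hay]; group
  have i4 : a * x * (a * y) = x * y := by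
    calc a * x * (a * y) = a * (x * a) * y := by group
      _ = a * a * x * y := by rw [← hax]; group
      _ = x * y := by rw [ha]; group
  rw [← i2]
  rw [i4] at E4
  have c1 := S.C_comm hax' hay' (by rw [i4]; calc x * y = y * x := hxy
    _ = a * a * (y * x) := by rw [ha, one_mul]
    _ = a * (a * y) * x := by group
    _ = a * (y * a) * x := by rw [hay]
    _ = a * y * (a * x) := by group)
  have c2 := S.C_comm hy hax' (by
    calc y * (a * x) = (y * a) * x := (mul_assoc _ _ _).symm
      _ = a * (y * x) := by rw [← hay]; group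
      _ = a * x * y := by rw [← hxy]; group)
  have c3 := S.C_comm hy hx hxy.symm
  calc S.C y * S.C (a * x) = S.C x * S.C x * (S.C y * S.C (a * x)) * (S.C (a * y) * S.C (a * y)) := by
        rw [S.C_sq hx, S.C_sq hay', one_mul, mul_one]
    _ = S.C x * (S.C x * S.C y) * (S.C (a * x) * S.C (a * y)) * S.C (a * y) := by group
    _ = S.C x * (S.C (x * y) * S.C (x * y)) * S.C (a * y) := by rw [E1, E4]; group
    _ = S.C (x * (a * y)) := by rw [S.C_sq hxy', mul_one, E2]

end Ext

end CfsgLib.Sporadic.ThMult
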