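import Cfsg.Agent.Lib.Sporadic.ThMult.Moves
import Cfsg.Agent.Lib.Sporadic.ThPres.Close

set_option autoImplicit false
set_option maxRecDepth 20000
set_option Elab.async false

/-! Conjugates of the special elements by `u`, by traces (generated; owner: helper21). -/

namespace CfsgLib.Sporadic.ThMult

open CfsgLib.Sporadic.ThPres (Use isOne factTree)

/-- a word -/
def wordKg0 : List ℕ := [15, 0, 14, 1]
/-- a trace -/
def usesKg0 : List Use := [
  ⟨[], 7, false, []⟩,
  ⟨[], 7, true, [1]⟩]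

theorem traceKg0 : isOne factTree 2197 wordKg0 usesKg0 = true := by decide +kernel

/-- a word -/
def wordKg1 : List ℕ := [15, 4, 14, 5]
/-- a trace -/
def usesKg1 : List Use := [
  ⟨[], 7, false, []⟩,
  ⟨[], 7, true, [0]⟩]

theorem traceKg1 : isOne factTree 2197 wordKg1 usesKg1 = true := by decide +kernel

/-- a word -/
def wordKg2 : List ℕ := [15, 8, 14, 9]
/-- a trace -/
def usesKg2 : List Use := [
  ⟨[], 7, false, []⟩,
  ⟨[], 7, true, [0, 1, 2]⟩]

theorem traceKg2 : isOne factTree 2197 wordKg2 usesKg2 = true := by decide +kernel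

/-- a word -/
def wordKg4 : List ℕ := [15, 3, 5, 1, 3, 14, 2, 0, 4, 2, 9]
/-- a trace -/
def usesKg4 : List Use := [
  ⟨[], 7, false, []⟩,
  ⟨[], 7, true, [0, 1, 4]⟩]

theorem traceKg4 : isOne factTree 2197 wordKg4 usesKg4 = true := by decide +kernel

/-- a word -/
def wordKg5 : List ℕ := [15, 10, 10, 8, 11, 11, 14, 10, 10, 9, 11, 11]
/-- a trace -/
def usesKg5 : List Use := [
  ⟨[], 7, false, []⟩,
  ⟨[], 7, true, [0, 1, 5]⟩]

theorem traceKg5 : isOne factTree 2197 wordKg5 usesKg5 = true := by decide +kernel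

/-- a word -/
def wordKg6 : List ℕ := [15, 6, 11, 11, 8, 6, 11, 8, 10, 10, 4, 6, 4, 8, 6, 4, 10, 8, 6, 4, 11, 11, 8, 11, 14, 6, 5, 7]
/-- a trace -/
def usesKg6 : List Use := [
  ⟨[], 7, false, []⟩,
  ⟨[], 7, true, [6, 1]⟩]

theorem traceKg6 : isOne factTree 2197 wordKg6 usesKg6 = true := by decide +kernel

end CfsgLib.Sporadic.ThMult
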