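import Cfsg.Agent.Lib.Sporadic.ThMult.Letters
import Cfsg.Agent.Lib.Sporadic.ThMult.Moves
import Cfsg.Agent.Lib.Sporadic.ThMult.SpecialTraces

/-!
# The lift of the 3D4(2):3 part and the seven moves (owner: helper21)
-/

set_option autoImplicit false
set_option maxRecDepth 20000
set_option linter.unusedSectionVars false

namespace CfsgLib.Sporadic.ThMult

open Cfsg CfsgLib.Sporadic
open CfsgLib.Sporadic.ThPres (thL relWords P0 L toTh Use isOne factTree)
open CfsgLib.Sporadic.PairEnum (winv flp)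

variable {Γ : Type*} [Group Γ] {σ : Γ →* Spor.Th} {p : ℕ} {S : Sect σ a0} {T : Γ}

/-- The lifts assemble to a map of the 3D4(2):3 part. -/
noncomputable def psi (N : Norm σ p S) (hT : σ T = thL 12) (hT3 : T ^ 3 = 1) : P0 →* Γ :=
  PresentedGroup.toGroup (f := fun i : Fin 7 => lo S T (2 * i.val)) (by
    rintro r ⟨w, hw, rfl⟩
    have hlt : ∀ k ∈ w, k < 14 := fun k hk => by
      simpa using List.all_eq_true.1 (List.all_eq_true.1 ThPres.words27_lt w hw) k hk
    rw [map_list_prod, List.map_map]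
    refine Eq.trans (congrArg List.prod (List.map_congr_left fun k hk => ?_)) (N.rel27 hT hT3 w hw)
    have := hlt k hk
    interval_cases k <;> simp [lo, ThPres.frN, FreeGroup.lift_apply_of])

theorem psi_L (N : Norm σ p S) (hT : σ T = thL 12) (hT3 : T ^ 3 = 1) {k : ℕ} (h : k < 14) :
    psi N hT hT3 (L k) = lo S T k := by
  show FreeGroup.lift (fun i : Fin 7 => lo S T (2 * i.val)) (ThPres.frN 7 k) = lo S T k
  interval_cases k <;> simp [lo, ThPres.frN, FreeGroup.lift_apply_of]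

theorem psi_comp (N : Norm σ p S) (hT : σ T = thL 12) (hT3 : T ^ 3 = 1) :
    σ.comp (psi N hT hT3) = toTh := by
  refine PresentedGroup.ext fun i => ?_
  have hi : (PresentedGroup.of i : P0) = L (2 * i.val) := by fin_cases i <;> rfl
  rw [hi, MonoidHom.comp_apply, psi_L N hT hT3 (by omega), ThPres.toTh_L (by omega)]
  fin_cases i <;> simp only [lo, gens, Nat.mul_zero, Nat.reduceMul, Nat.reduceMod, Nat.reduceDiv, if_true,
    List.getD_cons_zero, List.getD_cons_succ]
  exacts [(S.map_C inA_zero).trans (th_one _), (S.map_C inA_b).trans (th_one _), (S.map_C inA_c).trans (th_one _),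
    (S.map_C inA_d).trans (th_one _), (S.map_C inA_e).trans (th_one _), map_liftS S, hT]

/-- What is used about the lift of the 3D4(2):3 part. -/
structure Low (S : Sect σ a0) (T : Γ) (ψ : P0 →* Γ) : Prop where
  comp : σ.comp ψ = toTh
  val : ∀ k < 14, ψ (L k) = lo S T k

namespace Low

variable {ψ : P0 →* Γ} (hψ : Low S T ψ)
include hψ

theorem map_V {w : List ℕ} (hw : ∀ k ∈ w, k < 14) : σ (V ψ w) = th w := by
  rw [V, ← MonoidHom.comp_apply, hψ.comp]
  exact toTh_prod hw

theorem V_gen {x : ℕ} (hx : x ∈ ([0, 2, 4, 6, 8] : List ℕ)) :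
    V ψ [x] = S.C (th [x]) ∧ InA (th [x]) := by
  simp only [List.mem_cons, List.not_mem_nil, or_false] at hx
  have e : V ψ [x] = ψ (L x) := by simp [V]
  rcases hx with rfl | rfl | rfl | rfl | rfl <;> rw [e, hψ.val _ (by decide)] <;>
    simp only [lo, gens, Nat.reduceMod, Nat.reduceDiv, List.getD_cons_zero, List.getD_cons_succ, if_true]
  exacts [⟨trivial, inA_zero⟩, ⟨trivial, inA_b⟩, ⟨trivial, inA_c⟩, ⟨trivial, inA_d⟩, ⟨trivial, inA_e⟩]

/-- A conjugate of a generating involution goes to the lift of its value. -/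
theorem V_conj {x : ℕ} (hx : x ∈ ([0, 2, 4, 6, 8] : List ℕ)) {g w : List ℕ}
    (h : same w (winv g ++ [x] ++ g) = true) : V ψ w = S.C (th w) ∧ InA (th w) := by
  obtain ⟨e, hin⟩ := hψ.V_gen hx
  obtain ⟨-, h2, -⟩ := same_ev h
  have hg : ∀ k ∈ g, k < 14 := fun k hk => h2 k (List.mem_append_right _ hk)
  rw [th_same h, V_same ψ h, th_append, th_append, th_winv, V_append, V_append, V_winv, e]
  refine ⟨?_, inA_conj_word hin g⟩
  have e' := S.conj_C hin (V ψ g)⁻¹
  rwa [inv_inv, map_inv, inv_inv, hψ.map_V hg] at e'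

theorem V_ac (N : Norm σ p S) : V ψ [0, 4] = S.C (th [0, 4]) := by
  rw [show ([0, 4] : List ℕ) = [0] ++ [4] from rfl, V_append, (hψ.V_gen (x := 0) (by decide)).1,
    (hψ.V_gen (x := 4) (by decide)).1]
  exact N.C_ac.symm

end Low

theorem th_conj_u {v v' w : List ℕ} {us : List Use} (hw : ThPres.red ([15] ++ v ++ [14] ++ winv v') = ThPres.red w)
    (h : isOne factTree 2197 w us = true) : (thL 14)⁻¹ * th v * thL 14 = th v' := by
  have e := th_of_trace hw h
  rwa [th_append, th_append, th_one, th_one, show thL 15 = (thL 14)⁻¹ from ThPres.thL_flp 14] at e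

theorem map_U {w : Γ} (hw : σ w = 1) : σ (liftU S * w) = thL 14 := by rw [map_mul, hw, mul_one, map_liftU]

/-- Conjugation by a lift of `u` of the lift of a member of the class. -/
theorem conj_of_u {Z : Γ} (hZ : σ Z = thL 14) {j j' : Spor.Th} (hj : InA j)
    (h : (thL 14)⁻¹ * j * thL 14 = j') : Z⁻¹ * S.C j * Z = S.C j' := by
  have e := S.conj_C hj Z⁻¹
  rw [inv_inv, map_inv, inv_inv, hZ] at e
  rw [e, h]

theorem V_t {ψ : P0 →* Γ} (hψ : Low S T ψ) : V ψ [12] = T ∧ V ψ [13] = T⁻¹ := by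
  have e : ∀ x : ℕ, V ψ [x] = ψ (L x) := fun x => by simp [V]
  rw [e, e, hψ.val 12 (by decide), hψ.val 13 (by decide)]
  simp [lo, gens]

theorem sq_U (N : Norm σ p S) {ψ : P0 →* Γ} (hψ : Low S T ψ) {w : Γ} (hw : σ w = 1) (hw2 : w * w = 1) :
    (liftU S * w) * (liftU S * w) = V ψ [0, 4] := by
  rw [N.ext.sq_shift hw, hw2, mul_one, hψ.V_ac N]
  refine S.sq_of_tri inA_iSq N.tri_sq ?_
  rw [th_append, ← mul_assoc (th iSq) (th iSq), inA_sq inA_iSq, one_mul]
  have h := th_rel (w := [14, 14, 5, 1]) (by decide +kernel)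
  rw [show ([14, 14, 5, 1] : List ℕ) = [14] ++ [14] ++ winv [0, 4] from rfl, th_append, th_winv,
    mul_inv_eq_one, th_append] at h
  exact h

/-- The seven moves. -/
theorem good (N : Norm σ p S) {ψ : P0 →* Γ} (hψ : Low S T ψ)
    (hTU : (liftU S)⁻¹ * T * liftU S * T = 1) {w : Γ} (hw : σ w = 1) (hw2 : w * w = 1) :
    Good ψ (liftU S * w) where
  sq := sq_U N hψ hw hw2
  conj i hi := by
    have hZ := map_U (S := S) hw
    interval_cases i <;> simp only [kgW, kpW, List.getD_cons_zero, List.getD_cons_succ]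
    · rw [(hψ.V_gen (x := 0) (by decide)).1]
      exact conj_of_u hZ inA_zero (th_conj_u (by decide +kernel) traceKg0)
    · rw [(hψ.V_gen (x := 4) (by decide)).1]
      exact conj_of_u hZ inA_c (th_conj_u (by decide +kernel) traceKg1)
    · rw [(hψ.V_gen (x := 8) (by decide)).1]
      exact conj_of_u hZ inA_e (th_conj_u (by decide +kernel) traceKg2)
    · rw [(V_t hψ).1, (V_t hψ).2]
      calc (liftU S * w)⁻¹ * T * (liftU S * w) = w⁻¹ * ((liftU S)⁻¹ * T * liftU S * w) := by group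
        _ = w⁻¹ * (T⁻¹ * w) := by rw [eq_inv_of_mul_eq_one_left hTU]
        _ = T⁻¹ := by rw [(N.ext.comm hw T⁻¹).eq]; group
    · obtain ⟨e, hin⟩ := hψ.V_conj (x := 0) (g := [2, 0, 4, 2, 6, 4, 2, 6]) (w := [3, 5, 1, 3]) (by decide)
        (by decide +kernel)
      rw [e, show ([8, 3, 5, 1, 3] : List ℕ) = [8] ++ [3, 5, 1, 3] from rfl, V_append,
        (hψ.V_gen (x := 8) (by decide)).1, e]
      have ex : th [3, 5, 1, 3] = th [3, 0, 4, 2] := th_same (by decide +kernel)
      rw [conj_of_u hZ hin (th_conj_u (v' := [8, 3, 5, 1, 3]) (by decide +kernel) traceKg4),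
        show ([8, 3, 5, 1, 3] : List ℕ) = [8] ++ [3, 5, 1, 3] from rfl, th_append, ex]
      exact N.tri_e_x.2.2.2.symm
    · obtain ⟨e, hin⟩ := hψ.V_conj (x := 8) (g := [11, 11]) (w := [10, 10, 8, 11, 11]) (by decide)
        (by decide +kernel)
      rw [e]
      exact conj_of_u hZ hin (th_conj_u (by decide +kernel) traceKg5)
    · obtain ⟨e, hin⟩ := hψ.V_conj (x := 6) (g := [4, 2, 0, 6, 8, 6, 4, 2, 6, 8])
        (w := [6, 11, 11, 8, 6, 11, 8, 10, 10, 4, 6, 4, 8, 6, 4, 10, 8, 6, 4, 11, 11, 8, 11]) (by decide)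
        (by decide +kernel)
      obtain ⟨e', -⟩ := hψ.V_conj (x := 4) (g := [7]) (w := [6, 4, 7]) (by decide) (by decide +kernel)
      rw [e, e']
      exact conj_of_u hZ hin (th_conj_u (by decide +kernel) traceKg6)

end CfsgLib.Sporadic.ThMult
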