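import Cfsg.Agent.Lib.Sporadic.ThMult.Words
import Cfsg.Agent.Lib.Sporadic.ThPres.Close

set_option autoImplicit false
set_option maxRecDepth 20000
set_option Elab.async false

/-! Traces of trivial words through the double cosets (generated; owner: helper21). -/

namespace CfsgLib.Sporadic.ThMult

open CfsgLib.Sporadic.ThPres (Use isOne factTree)

/-- a word, and its trace -/
def wordD : List ℕ := [4, 6, 2, 15, 2, 12, 15, 9, 7, 1, 3, 15, 3, 0, 2, 14, 2, 0, 6, 8, 14, 13, 3, 14, 3, 7, 5, 7]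
/-- a trace -/
def usesD : List Use := [
  ⟨[2, 3, 1], 7, false, []⟩,
  ⟨[], 39, false, [3, 4]⟩,
  ⟨[42, 42, 44, 42], 41, false, [2, 4, 6, 1, 5, 3, 3, 6, 2, 4, 6]⟩,
  ⟨[11, 13, 12], 39, false, [0, 3, 5, 6, 4, 6, 2, 6]⟩,
  ⟨[52, 52, 52], 43, false, [2, 4, 6, 4, 5, 3, 5]⟩,
  ⟨[], 7, true, [0, 5, 6, 2, 4, 5, 3, 6]⟩]

theorem traceD : isOne factTree 2197 wordD usesD = true := by decide +kernel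

/-- a word, and its trace -/
def wordUh : List ℕ := [14, 11, 14, 11, 14, 11]
/-- a trace -/
def usesUh : List Use := [
  ⟨[], 7, false, []⟩,
  ⟨[], 15, false, [1, 2, 5, 3, 6, 5, 3, 3, 6, 4, 6]⟩,
  ⟨[], 7, true, [0, 1]⟩]

theorem traceUh : isOne factTree 2197 wordUh usesUh = true := by decide +kernel

/-- a word, and its trace -/
def wordLineOneA : List ℕ := [3, 15, 1, 3, 15, 1, 3, 11, 7, 9, 0, 8, 6, 10, 2, 0, 14, 2, 0, 14, 2, 9, 5]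
/-- a trace -/
def usesLineOneA : List Use := [
  ⟨[1], 7, false, []⟩,
  ⟨[8], 39, false, [4]⟩,
  ⟨[44, 42, 42, 44], 41, false, [1, 2, 4, 6, 2, 5, 3, 5]⟩,
  ⟨[], 7, true, [2, 3, 3, 5, 6, 4, 5, 3, 6, 5]⟩]

theorem traceLineOneA : isOne factTree 2197 wordLineOneA usesLineOneA = true := by decide +kernel

/-- a word, and its trace -/
def wordLineOneB : List ℕ := [3, 15, 1, 3, 15, 1, 3, 11, 7, 9, 6, 8, 6, 10, 2, 0, 14, 2, 0, 14, 2, 11, 9, 10]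
/-- a trace -/
def usesLineOneB : List Use := [
  ⟨[1], 7, false, []⟩,
  ⟨[8], 39, false, [4]⟩,
  ⟨[], 39, true, [0, 1, 3, 3, 4, 5, 3]⟩,
  ⟨[], 7, true, [1, 2, 3, 5, 3, 3]⟩]

theorem traceLineOneB : isOne factTree 2197 wordLineOneB usesLineOneB = true := by decide +kernel

/-- a word, and its trace -/
def wordLineTwoA : List ℕ := [3, 15, 1, 3, 15, 1, 3, 12, 10, 7, 5, 7, 15, 7, 9, 5, 0, 4, 8, 6, 14, 6, 4, 6, 11, 13, 2, 0, 14, 2, 0, 14, 2, 9, 5]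
/-- a trace -/
def usesLineTwoA : List Use := [
  ⟨[1], 7, false, []⟩,
  ⟨[8], 39, false, [4]⟩,
  ⟨[42, 52, 52], 47, true, [2, 5, 3, 3, 6, 1, 2, 4]⟩,
  ⟨[], 47, false, [0, 4, 5, 3, 6, 4, 6, 2]⟩,
  ⟨[42, 42, 42, 52], 43, false, [0, 2, 3, 4, 6, 4, 5, 3, 3]⟩,
  ⟨[], 7, true, [5, 6, 1, 2, 4, 5, 6, 4, 5]⟩]

theorem traceLineTwoA : isOne factTree 2197 wordLineTwoA usesLineTwoA = true := by decide +kernel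

/-- a word, and its trace -/
def wordLineTwoB : List ℕ := [3, 15, 1, 3, 15, 1, 3, 12, 10, 7, 5, 7, 15, 7, 9, 5, 6, 4, 8, 6, 14, 6, 4, 6, 11, 13, 2, 0, 14, 2, 0, 14, 2, 11, 9, 10, 1]
/-- a trace -/
def usesLineTwoB : List Use := [
  ⟨[1], 7, false, []⟩,
  ⟨[8], 39, false, [4]⟩,
  ⟨[42, 52, 52], 47, true, [2, 5, 3, 3, 6, 1, 2, 4]⟩,
  ⟨[], 47, false, [2, 5, 3, 6, 1, 4]⟩,
  ⟨[42, 42, 42, 52], 43, false, [2, 4, 6, 2, 5]⟩,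
  ⟨[], 7, true, [2, 3, 5, 6, 5, 3, 3, 6, 4, 6, 4]⟩]

theorem traceLineTwoB : isOne factTree 2197 wordLineTwoB usesLineTwoB = true := by decide +kernel

/-- a word, and its trace -/
def wordLineThreeA : List ℕ := [6, 10, 4, 0, 8, 6, 14, 2, 15, 9, 5, 7, 3, 15, 1, 3, 12, 10, 14, 7, 0, 6, 15, 11, 13, 2, 0, 14, 2, 6, 4, 8, 14, 3, 15, 7, 9, 1, 5, 11, 7, 11, 9, 10]
/-- a trace -/
def usesLineThreeA : List Use := [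
  ⟨[3, 5, 4, 3], 7, false, [1, 6, 4, 6, 2, 6, 4]⟩,
  ⟨[14, 13, 12, 13], 43, true, [2, 6, 4, 6, 5]⟩,
  ⟨[42, 42, 44, 42], 41, false, [2, 4, 6, 1, 4, 5, 3, 6, 2, 4]⟩,
  ⟨[12, 14, 12, 13, 11, 11, 10], 25, false, [1, 2, 5, 3, 6, 5, 3, 5, 6]⟩,
  ⟨[], 25, true, [1, 2, 6, 2, 5, 6, 5, 3]⟩,
  ⟨[13, 9], 43, true, [2, 4, 6, 1, 2, 5, 3, 5, 6, 2, 4]⟩,
  ⟨[42, 44, 44], 41, false, [1, 2, 3, 3, 4, 6, 5, 3, 5]⟩,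
  ⟨[], 7, true, [5, 6, 2, 6, 4, 5, 3, 6, 4]⟩]

theorem traceLineThreeA : isOne factTree 2197 wordLineThreeA usesLineThreeA = true := by decide +kernel

/-- a word, and its trace -/
def wordLineThreeB : List ℕ := [6, 10, 4, 0, 8, 6, 14, 2, 15, 9, 5, 7, 3, 15, 1, 3, 12, 10, 14, 7, 4, 6, 15, 11, 13, 2, 0, 14, 2, 6, 4, 8, 14, 3, 15, 7, 9, 1, 5, 11, 7, 9, 5, 1]
/-- a trace -/
def usesLineThreeB : List Use := [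
  ⟨[3, 5, 4, 3], 7, false, [1, 6, 4, 6, 2, 6, 4]⟩,
  ⟨[14, 13, 12, 13], 43, true, [2, 6, 4, 6, 5]⟩,
  ⟨[42, 42, 44, 42], 41, false, [2, 4, 6, 1, 4, 5, 3, 6, 2, 4]⟩,
  ⟨[12, 14, 12, 13, 11, 11, 10], 25, false, [1, 2, 5, 3, 6, 5, 3, 5, 6]⟩,
  ⟨[], 25, true, [1, 4, 5, 6, 4, 6, 4, 5, 3]⟩,
  ⟨[10, 12, 14, 11, 11, 13], 43, true, [3, 3, 6, 1]⟩,
  ⟨[44, 44, 42, 42], 43, false, [2, 4, 6, 5, 3, 5]⟩,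
  ⟨[], 7, true, [5, 3, 6, 4, 5, 3, 5, 6, 2]⟩]

theorem traceLineThreeB : isOne factTree 2197 wordLineThreeB usesLineThreeB = true := by decide +kernel

/-- a word, and its trace -/
def wordLineFourA : List ℕ := [13, 2, 14, 14, 14, 7, 3, 5, 7, 3, 5, 1, 3, 11, 14, 12, 10, 9, 7, 15, 0, 14, 6, 8, 11, 13, 15, 10, 2, 0, 4, 2, 6, 4, 2, 6, 15, 15, 15, 3, 12, 9, 5, 1]
/-- a trace -/
def usesLineFourA : List Use := [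
  ⟨[1], 7, false, [3, 3]⟩,
  ⟨[], 7, true, [3]⟩,
  ⟨[], 7, false, [0, 1, 3, 3]⟩,
  ⟨[12, 14, 13, 11, 13, 10, 12], 58, false, [2, 5, 3, 6, 1, 5, 3, 6, 5, 3, 6]⟩,
  ⟨[63], 45, false, [1, 2, 5, 3, 3, 6, 4, 5, 3, 6, 5]⟩,
  ⟨[], 45, true, [0, 3, 3, 4, 6, 4, 6, 5, 3, 6, 2]⟩,
  ⟨[63, 63], 58, true, [1, 2, 6, 2]⟩,
  ⟨[], 7, true, [0, 2, 3, 3, 6, 2, 4, 5, 3, 6]⟩,
  ⟨[], 7, false, [0, 3, 6, 4, 5, 3, 3, 6, 2]⟩,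
  ⟨[], 7, true, [2, 3, 3, 6, 2, 4, 5, 3, 6]⟩]

theorem traceLineFourA : isOne factTree 2197 wordLineFourA usesLineFourA = true := by decide +kernel

/-- a word, and its trace -/
def wordLineFourB : List ℕ := [13, 2, 14, 14, 14, 7, 3, 5, 7, 3, 5, 1, 3, 11, 14, 12, 10, 9, 7, 15, 6, 14, 6, 8, 11, 13, 15, 10, 2, 0, 4, 2, 6, 4, 2, 6, 15, 15, 15, 3, 12, 11, 9, 10, 1]
/-- a trace -/
def usesLineFourB : List Use := [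
  ⟨[1], 7, false, [3, 3]⟩,
  ⟨[], 7, true, [3]⟩,
  ⟨[], 7, false, [0, 1, 3, 3]⟩,
  ⟨[12, 14, 13, 11, 13, 10, 12], 58, false, [2, 5, 3, 6, 1, 5, 3, 6, 5, 3, 6]⟩,
  ⟨[63], 45, false, [1, 2, 5, 3, 3, 6, 4, 5, 3, 6, 5]⟩,
  ⟨[42, 42, 42], 45, true, [2, 3, 3, 5, 6, 4, 5, 3, 6, 2, 6]⟩,
  ⟨[63, 63], 58, true, [3, 5, 3, 6, 1, 5, 3, 6, 2, 6, 5]⟩,
  ⟨[], 7, true, [0, 2, 3, 3, 6, 5, 3, 6, 2, 4, 6, 5]⟩,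
  ⟨[], 7, false, [0, 3, 6, 4, 5, 3, 3, 6, 2, 4, 5]⟩,
  ⟨[], 7, true, [2, 3, 3, 6, 5, 3, 6, 2, 4, 6, 5]⟩]

theorem traceLineFourB : isOne factTree 2197 wordLineFourB usesLineFourB = true := by decide +kernel

/-- a word, and its trace -/
def wordEsA : List ℕ := [13, 8, 6, 8, 2, 4, 6, 2, 8, 15, 3, 15, 7, 1, 3, 15, 3, 12, 11, 9, 7, 14, 9, 7, 0, 6, 8, 15, 6, 8, 10, 13, 2, 14, 2, 0, 6, 14, 2, 14, 9, 3, 7, 5, 3, 9, 7, 9, 12, 9]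
/-- a trace -/
def usesEsA : List Use := [
  ⟨[3, 4, 3, 2, 3, 1], 7, false, [2, 3, 3, 4, 6, 4, 6, 4]⟩,
  ⟨[14, 10, 12, 14, 12], 39, false, [0, 1, 2, 3, 4]⟩,
  ⟨[52, 52, 44, 52], 39, true, [5, 3, 6, 1, 2, 4, 6]⟩,
  ⟨[14, 13, 10], 58, false, [1, 2, 3, 4, 6, 5, 3, 3, 6, 4, 6]⟩,
  ⟨[], 58, true, [2, 3, 3, 4, 6, 2, 5, 3, 6, 4, 6]⟩,
  ⟨[11, 13, 10, 12, 8], 39, false, [1, 2, 3, 6, 4, 6, 2]⟩,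
  ⟨[44, 42, 44], 41, false, [1, 3, 6, 2, 4, 6, 5, 3]⟩,
  ⟨[], 7, true, [1, 2, 3, 3, 5, 6, 4, 5, 6, 5]⟩]

theorem traceEsA : isOne factTree 2197 wordEsA usesEsA = true := by decide +kernel

/-- a word, and its trace -/
def wordEsB : List ℕ := [13, 8, 6, 8, 2, 4, 6, 2, 8, 15, 3, 15, 7, 1, 3, 15, 3, 12, 11, 9, 7, 14, 9, 7, 4, 6, 8, 15, 6, 8, 10, 13, 2, 14, 2, 0, 6, 14, 2, 14, 9, 3, 7, 5, 3, 9, 7, 9, 12, 11, 9, 10]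
/-- a trace -/
def usesEsB : List Use := [
  ⟨[3, 4, 3, 2, 3, 1], 7, false, [2, 3, 3, 4, 6, 4, 6, 4]⟩,
  ⟨[14, 10, 12, 14, 12], 39, false, [0, 1, 2, 3, 4]⟩,
  ⟨[52, 52, 44, 52], 39, true, [5, 3, 6, 1, 2, 4, 6]⟩,
  ⟨[14, 13, 10], 58, false, [1, 2, 3, 4, 6, 5, 3, 3, 6, 4, 6]⟩,
  ⟨[], 58, true, [3, 3, 6, 2, 6, 4, 6, 5, 3, 6, 4]⟩,
  ⟨[10, 12, 14, 11, 13], 43, true, [1, 2, 4, 6, 2, 5, 3, 5, 6, 2, 4]⟩,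
  ⟨[44, 42, 42], 43, false, [2, 3, 3, 4, 6, 5, 3]⟩,
  ⟨[], 7, true, [5, 6, 2, 4, 5, 6]⟩]

theorem traceEsB : isOne factTree 2197 wordEsB usesEsB = true := by decide +kernel

/-- a word, and its trace -/
def wordXuA : List ℕ := [13, 8, 6, 8, 2, 4, 6, 2, 8, 15, 3, 15, 7, 1, 3, 15, 3, 15, 7, 0, 6, 14, 2, 14, 2, 0, 6, 14, 2, 14, 9, 3, 7, 5, 3, 9, 7, 9, 12, 9]
/-- a trace -/
def usesXuA : List Use := [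
  ⟨[3, 4, 3, 2, 3, 1], 7, false, [2, 3, 3, 4, 6, 4, 6, 4]⟩,
  ⟨[14, 10, 12, 14, 12], 39, false, [0, 1, 2, 3, 4]⟩,
  ⟨[52, 52, 44, 52], 39, true, [5, 3, 6, 1, 2, 4, 6]⟩,
  ⟨[11, 11, 13, 12, 8], 39, false, [0, 2, 6, 4, 6, 2]⟩,
  ⟨[], 39, true, [0, 6, 2, 4, 6]⟩,
  ⟨[14, 10, 12, 8], 39, false, [0, 2, 6, 4, 6, 2]⟩,
  ⟨[42, 44, 42], 43, false, [2, 3, 3, 4, 6, 2, 5, 3]⟩,
  ⟨[], 7, true, [5, 6, 2, 4, 5, 6, 2]⟩]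

theorem traceXuA : isOne factTree 2197 wordXuA usesXuA = true := by decide +kernel

/-- a word, and its trace -/
def wordXuB : List ℕ := [13, 8, 6, 8, 2, 4, 6, 2, 8, 15, 3, 15, 7, 1, 3, 15, 3, 15, 7, 4, 6, 14, 2, 14, 2, 0, 6, 14, 2, 14, 9, 3, 7, 5, 3, 9, 7, 9, 12, 3, 5, 1, 2]
/-- a trace -/
def usesXuB : List Use := [
  ⟨[3, 4, 3, 2, 3, 1], 7, false, [2, 3, 3, 4, 6, 4, 6, 4]⟩,
  ⟨[14, 10, 12, 14, 12], 39, false, [0, 1, 2, 3, 4]⟩,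
  ⟨[52, 52, 44, 52], 39, true, [5, 3, 6, 1, 2, 4, 6]⟩,
  ⟨[11, 11, 13, 12, 8], 39, false, [0, 2, 6, 4, 6, 2]⟩,
  ⟨[], 39, true, [1, 2, 6, 2, 4]⟩,
  ⟨[14, 12], 39, false, [0, 6, 4, 6, 2, 6]⟩,
  ⟨[44, 42, 44, 42], 43, false, [0, 2, 3, 3, 4, 6, 2, 5]⟩,
  ⟨[], 7, true, [5, 6, 5, 3, 6, 2, 4, 6]⟩]

theorem traceXuB : isOne factTree 2197 wordXuB usesXuB = true := by decide +kernel

/-- a word, and its trace -/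
def wordSqA : List ℕ := [7, 5, 7, 3, 5, 1, 3, 10, 7, 15, 7, 9, 11, 7, 14, 11, 9, 0, 8, 10, 15, 6, 10, 8, 6, 14, 6, 11, 2, 0, 4, 2, 6, 4, 6, 5, 1]
/-- a trace -/
def usesSqA : List Use := [
  ⟨[5, 3, 2, 3, 1, 2, 3, 0, 1], 7, false, []⟩,
  ⟨[14, 13, 11, 13, 12, 11], 47, false, [2, 5, 3, 6, 5, 6, 5, 3]⟩,
  ⟨[], 47, true, [1, 2, 3, 5, 3, 6, 5, 3, 3, 6, 2]⟩,
  ⟨[], 7, true, [1, 3, 6, 4, 6, 2, 6, 5]⟩]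

theorem traceSqA : isOne factTree 2197 wordSqA usesSqA = true := by decide +kernel

/-- a word, and its trace -/
def wordSqB : List ℕ := [7, 5, 7, 3, 5, 1, 3, 10, 7, 15, 7, 9, 11, 7, 14, 11, 9, 6, 8, 10, 15, 6, 10, 8, 6, 14, 6, 11, 2, 0, 4, 2, 6, 4, 6, 15, 7, 5, 7, 3, 5, 1, 3, 15, 9, 5, 14, 2, 0, 4, 2, 6, 4, 6]
/-- a trace -/
def usesSqB : List Use := [
  ⟨[5, 3, 2, 3, 1, 2, 3, 0, 1], 7, false, []⟩,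
  ⟨[14, 13, 11, 13, 12, 11], 47, false, [2, 5, 3, 6, 5, 6, 5, 3]⟩,
  ⟨[52, 44, 52], 47, true, [0, 3, 3, 4, 6, 5, 6, 4, 5, 3]⟩,
  ⟨[12, 13, 12], 54, false, [6, 5, 6, 4, 6, 4, 5, 3, 3]⟩,
  ⟨[], 7, true, [1, 3, 5, 6, 2, 5, 6, 2, 4]⟩,
  ⟨[], 7, false, [1, 2, 3, 3, 5, 6, 2, 4, 5, 6, 2]⟩,
  ⟨[], 7, true, [3, 5, 6, 1, 4, 5, 6, 2]⟩]

theorem traceSqB : isOne factTree 2197 wordSqB usesSqB = true := by decide +kernel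

/-- a word, and its trace -/
def wordCommA : List ℕ := [7, 5, 7, 3, 5, 1, 3, 7, 15, 11, 7, 14, 11, 7, 14, 9, 0, 8, 15, 6, 10, 15, 6, 10, 14, 6, 2, 0, 4, 2, 6, 4, 6, 5, 1]
/-- a trace -/
def usesCommA : List Use := [
  ⟨[3, 2, 3, 1, 2, 3, 0, 1], 7, false, []⟩,
  ⟨[14, 11, 11, 13, 12], 47, false, [2, 5, 3, 6, 5, 3, 6, 2]⟩,
  ⟨[42, 52], 47, true, [3, 4, 6, 1, 2, 5, 6, 4, 5, 3, 5]⟩,
  ⟨[], 47, false, [2, 4, 5, 6, 4, 5, 3, 5, 6, 4, 6]⟩,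
  ⟨[52, 52, 44], 47, true, [1, 2, 3, 4, 5, 6, 4, 5, 6, 4]⟩,
  ⟨[], 7, true, [5, 3, 5, 6, 2, 4, 6, 5, 6, 2]⟩]

theorem traceCommA : isOne factTree 2197 wordCommA usesCommA = true := by decide +kernel

/-- a word, and its trace -/
def wordCommB : List ℕ := [7, 5, 7, 3, 5, 1, 3, 7, 15, 11, 7, 14, 11, 7, 14, 9, 6, 8, 15, 6, 10, 15, 6, 10, 14, 6, 2, 0, 4, 2, 6, 4, 6, 11, 15, 10, 14, 11, 15, 10, 14, 12, 2, 4, 6, 10, 0, 15, 3, 14, 3, 15, 7, 5, 1, 3, 1, 2, 0, 4, 6, 14, 2, 15, 2, 14, 1, 11, 7, 5, 3, 13]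
/-- a trace -/
def usesCommB : List Use := [
  ⟨[3, 2, 3, 1, 2, 3, 0, 1], 7, false, []⟩,
  ⟨[14, 11, 11, 13, 12], 47, false, [2, 5, 3, 6, 5, 3, 6, 2]⟩,
  ⟨[42, 52], 47, true, [3, 4, 6, 1, 2, 5, 6, 4, 5, 3, 5]⟩,
  ⟨[12, 11, 11, 13, 12], 47, false, [3, 4, 5, 3, 6, 1, 2, 5, 6, 4]⟩,
  ⟨[44, 42], 47, true, [1, 2, 5, 3, 6, 5, 6, 2, 5]⟩,
  ⟨[12, 11, 13, 12], 54, false, [0, 3, 3, 4, 5, 3, 6, 4, 5, 6, 5]⟩,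
  ⟨[11], 15, false, [3, 3, 5, 6, 5, 6, 4, 6, 2]⟩,
  ⟨[11, 11], 15, false, [0, 4, 5, 6, 5, 3, 3, 6, 5, 6]⟩,
  ⟨[11], 15, true, [5, 6, 2, 5, 6, 4, 6, 5]⟩,
  ⟨[], 7, true, [1, 6, 5, 3, 3, 6, 2, 6, 5, 3, 6]⟩,
  ⟨[5, 4, 3, 5, 4, 1, 2, 3, 5, 4, 5, 5, 3, 2, 3, 0, 1], 7, false, [2, 3, 6, 5, 6, 2, 6, 2, 4]⟩,
  ⟨[14, 11, 11, 10], 41, true, [1, 2, 3, 3, 6, 4, 6]⟩,
  ⟨[52, 44, 52, 52], 41, false, [1, 2, 3, 3, 4, 6, 5, 3, 5]⟩,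
  ⟨[12, 14, 10, 9], 41, true, [1, 2, 3, 3, 6, 4, 6, 4, 5, 3]⟩,
  ⟨[52, 44, 52, 52], 41, false, [2, 3, 3, 4, 6, 1, 2, 5]⟩,
  ⟨[], 7, true, [3, 5, 6, 5, 3, 6, 2, 6, 4, 6]⟩]

theorem traceCommB : isOne factTree 2197 wordCommB usesCommB = true := by decide +kernel

/-- a word, and its trace -/
def wordDuA : List ℕ := [10, 10, 12, 12, 0, 14, 10, 9, 7, 3, 5, 1, 3, 9, 7, 14, 11, 9, 7, 15, 9, 11, 9, 0, 8, 10, 8, 14, 6, 8, 10, 15, 6, 8, 2, 0, 4, 2, 6, 8, 11, 15, 1, 13, 13, 11, 11, 11, 11, 9, 7, 5, 6, 8, 10, 10, 10, 9, 7, 5, 6, 8, 11, 7, 5, 6, 5, 1]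
/-- a trace -/
def usesDuA : List Use := [
  ⟨[5, 5], 7, false, [0, 3, 3]⟩,
  ⟨[12, 13, 10, 12, 14, 11, 11], 25, false, [1, 3, 6, 4, 5, 6, 2, 6, 4, 5, 3]⟩,
  ⟨[63, 63], 70, true, [4, 5, 6, 5, 3, 6, 4, 5, 3]⟩,
  ⟨[], 70, false, [1, 4, 6, 5, 3, 6, 2, 4, 5]⟩,
  ⟨[63], 25, true, [0, 4, 6, 5, 3, 5, 6, 4]⟩,
  ⟨[], 7, true, [0, 3, 3, 5, 6, 4, 5, 6, 4, 6]⟩]

theorem traceDuA : isOne factTree 2197 wordDuA usesDuA = true := by decide +kernel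

/-- a word, and its trace -/
def wordDuB : List ℕ := [10, 10, 12, 12, 0, 14, 10, 9, 7, 3, 5, 1, 3, 9, 7, 14, 11, 9, 7, 15, 9, 11, 9, 6, 8, 10, 8, 14, 6, 8, 10, 15, 6, 8, 2, 0, 4, 2, 6, 8, 11, 15, 1, 13, 13, 11, 11, 11, 11, 15, 10, 10, 7, 11, 11, 15, 10, 10, 7, 8, 6, 2, 13, 11, 13, 15, 8, 15, 7, 3, 5, 7, 3, 15, 3, 1, 2, 14, 2, 6, 4, 2, 6, 14, 9, 14, 12, 10, 12, 3, 7, 9]
/-- a trace -/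
def usesDuB : List Use := [
  ⟨[5, 5], 7, false, [0, 3, 3]⟩,
  ⟨[12, 13, 10, 12, 14, 11, 11], 25, false, [1, 3, 6, 4, 5, 6, 2, 6, 4, 5, 3]⟩,
  ⟨[63, 63], 70, true, [4, 5, 6, 5, 3, 6, 4, 5, 3]⟩,
  ⟨[63, 63], 70, true, [3, 3, 6, 1, 5, 3, 5, 6, 2, 5]⟩,
  ⟨[63, 63, 61], 60, false, [4, 5, 6, 2, 6, 5, 6, 2]⟩,
  ⟨[42], 40, true, [1, 4, 5, 6, 4, 5, 3, 3, 6, 4]⟩,
  ⟨[14, 13, 10, 12], 54, false, [5, 3, 3, 6, 5, 3, 6, 5, 6, 4]⟩,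
  ⟨[12, 13, 10, 12, 11, 11], 47, false, [2, 3, 6, 2, 6, 5, 6, 5, 3]⟩,
  ⟨[52, 52, 42, 42, 44, 42, 44, 42], 1914, true, [3, 3, 5, 3, 6, 2, 4, 6, 5]⟩,
  ⟨[], 1914, false, [1, 2, 3, 5, 3, 3, 6, 4, 6, 5]⟩,
  ⟨[42, 42, 44, 52], 39, true, [0, 2, 3, 3, 5]⟩,
  ⟨[], 7, true, [0, 2, 3, 5]⟩,
  ⟨[3, 5, 3, 4, 5, 3, 2, 3, 1], 7, false, [0, 3, 3, 6, 2, 6, 4, 6]⟩,
  ⟨[], 7, true, [1, 2, 3, 4, 6, 2]⟩]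

theorem traceDuB : isOne factTree 2197 wordDuB usesDuB = true := by decide +kernel

/-- a word, and its trace -/
def wordDeed : List ℕ := [15, 4, 0, 2, 14, 2, 6, 14, 1, 3, 14, 9, 7, 5, 3, 0, 2, 4, 6, 8, 15, 2, 0, 15, 7, 3, 15, 3, 1, 5, 7, 14, 9, 7]
/-- a trace -/
def usesDeed : List Use := [
  ⟨[], 7, false, []⟩,
  ⟨[], 39, false, []⟩,
  ⟨[52, 42, 52, 52, 52, 44, 52], 1914, true, [2, 6, 5, 3, 6, 5, 3]⟩,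
  ⟨[1793, 1811, 1811], 1914, false, [4, 5, 3, 6, 4, 5, 3, 6, 5]⟩,
  ⟨[52, 42, 44, 52, 52, 44, 44], 1914, true, [1, 2, 3, 6, 4, 6, 5, 3, 6, 4, 5]⟩,
  ⟨[1792, 1830], 1787, true, [0, 2, 4, 6, 5, 3, 3, 6, 5, 3]⟩,
  ⟨[50, 245], 18, true, [0, 6, 5, 6, 2, 4, 6, 5, 3]⟩,
  ⟨[], 7, true, [1, 4, 6, 4, 5, 6, 4, 5, 6]⟩]

theorem traceDeed : isOne factTree 2197 wordDeed usesDeed = true := by decide +kernel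

/-- a word, and its trace -/
def wordJd : List ℕ := [14, 6, 15, 0, 4, 6, 5, 1, 14, 6, 15, 0, 4, 6, 5, 1, 14, 6, 15, 0, 4, 6, 5, 1]
/-- a trace -/
def usesJd : List Use := [
  ⟨[], 7, false, []⟩,
  ⟨[10], 40, false, [0, 2, 3, 3, 6, 2]⟩,
  ⟨[42, 42], 40, true, [5, 6, 2, 5]⟩,
  ⟨[10], 40, false, [3, 5, 3, 6, 2, 5, 3, 6, 5, 6, 2]⟩,
  ⟨[42], 40, true, [1, 3, 3, 5, 6, 5, 3, 3]⟩,
  ⟨[], 7, true, [1, 6, 2, 6, 5, 6, 5]⟩]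

theorem traceJd : isOne factTree 2197 wordJd usesJd = true := by decide +kernel

end CfsgLib.Sporadic.ThMult
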