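import Cfsg.Agent.Lib.Sporadic.ThMult.Conj
import Cfsg.Agent.Lib.Sporadic.ThMult.Traces
import Cfsg.Agent.Lib.Sporadic.ThPres.Cent.Table

/-!
# What is needed inside the Thompson group (owner: helper21)
-/

set_option autoImplicit false
set_option maxRecDepth 20000

namespace CfsgLib.Sporadic.ThMult

open Cfsg CfsgLib.Sporadic
open CfsgLib.Sporadic.ThPres (thL red Use isOne factTree)
open CfsgLib.Sporadic.PairEnum (winv)

theorem th_red (w : List ℕ) : th (red w) = th w := ThPres.prod_red ThPres.thL_flp w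

/-- An equality of values from a trace of the reduced quotient. -/
theorem th_of_trace {u v w : List ℕ} {us : List Use} (hw : red (u ++ winv v) = red w)
    (h : isOne factTree 2197 w us = true) : th u = th v :=
  th_split (by rw [← th_red, hw, th_red]; exact th_trace h)

theorem eq_D : th (gD ++ [0]) = th ([6] ++ gD) := th_of_trace (by decide +kernel) traceD
theorem eq_Uh : th [14, 11, 14, 11, 14, 11] = 1 := th_trace traceUh
theorem eq_LineOneA : th (gOne ++ [0]) = th ([4, 8] ++ gOne) := th_of_trace (by decide +kernel) traceLineOneA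
theorem eq_LineOneB : th (gOne ++ [6]) = th ([11, 8, 10] ++ gOne) := th_of_trace (by decide +kernel) traceLineOneB
theorem eq_LineTwoA : th (gTwo ++ [0]) = th ([4, 8] ++ gTwo) := th_of_trace (by decide +kernel) traceLineTwoA
theorem eq_LineTwoB : th (gTwo ++ [6]) = th ([0, 11, 8, 10] ++ gTwo) := th_of_trace (by decide +kernel) traceLineTwoB
theorem eq_LineThreeA : th (gThree ++ [0]) = th ([11, 8, 10] ++ gThree) :=
  th_of_trace (by decide +kernel) traceLineThreeA
theorem eq_LineThreeB : th (gThree ++ [4]) = th ([0, 4, 8] ++ gThree) :=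
  th_of_trace (by decide +kernel) traceLineThreeB
theorem eq_LineFourA : th (gFour ++ [0]) = th ([0, 4, 8] ++ gFour) := th_of_trace (by decide +kernel) traceLineFourA
theorem eq_LineFourB : th (gFour ++ [6]) = th ([0, 11, 8, 10] ++ gFour) :=
  th_of_trace (by decide +kernel) traceLineFourB
theorem eq_EsA : th (gEs ++ [0]) = th ([8] ++ gEs) := th_of_trace (by decide +kernel) traceEsA
theorem eq_EsB : th (gEs ++ [4]) = th ([11, 8, 10] ++ gEs) := th_of_trace (by decide +kernel) traceEsB
theorem eq_XuA : th (gXu ++ [0]) = th ([8] ++ gXu) := th_of_trace (by decide +kernel) traceXuA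
theorem eq_XuB : th (gXu ++ [4]) = th ([3, 0, 4, 2] ++ gXu) := th_of_trace (by decide +kernel) traceXuB
theorem eq_SqA : th (gSq ++ [0]) = th ([0, 4] ++ gSq) := th_of_trace (by decide +kernel) traceSqA
theorem eq_SqB : th (gSq ++ [6]) = th ((iSq ++ [14]) ++ gSq) := th_of_trace (by decide +kernel) traceSqB
theorem eq_CommA : th (gComm ++ [0]) = th ([0, 4] ++ gComm) := th_of_trace (by decide +kernel) traceCommA
theorem eq_CommB : th (gComm ++ [6]) = th ((iComm ++ [15, 11, 14, 10, 15, 11, 14, 10]) ++ gComm) :=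
  th_of_trace (by decide +kernel) traceCommB
theorem eq_DuA : th (gDu ++ [0]) = th (rhsDu ++ gDu) := th_of_trace (by decide +kernel) traceDuA
theorem eq_DuB : th (gDu ++ [6]) = th ((iDu ++ [6, 11, 11, 14, 10, 10, 6, 11, 11, 14, 10, 10]) ++ gDu) :=
  th_of_trace (by decide +kernel) traceDuB
theorem eq_Deed : th (gDeed ++ [0]) = th ([6, 8, 15, 6, 14] ++ gDeed) := th_of_trace (by decide +kernel) traceDeed
theorem eq_Jd : th [14, 6, 15, 0, 4, 6, 5, 1, 14, 6, 15, 0, 4, 6, 5, 1, 14, 6, 15, 0, 4, 6, 5, 1] = 1 := by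
  rw [← th_red]
  have h : red wordJd = red [14, 6, 15, 0, 4, 6, 5, 1, 14, 6, 15, 0, 4, 6, 5, 1, 14, 6, 15, 0, 4, 6, 5, 1] := by
    decide +kernel
  rw [← h, th_red]
  exact th_trace traceJd

theorem inA_zero : InA (th [0]) := by rw [th_one]; exact InC.self _
theorem inA_b : InA (th [2]) := inA_of_zero (g := [2, 0]) (by decide +kernel)
theorem inA_c : InA (th [4]) := inA_of_zero (g := [2, 0, 4, 2]) (by decide +kernel)
theorem inA_ac : InA (th [0, 4]) := inA_of_zero (g := [2, 0, 4, 2, 6, 4, 6]) (by decide +kernel)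
theorem inA_d : InA (th [6]) := inA_of_eq inA_zero eq_D
theorem inA_d' : InA (thL 6) := th_one 6 ▸ inA_d
theorem inA_e : InA (th [8]) := inA_six_row inA_d' (g := [8, 6]) (by decide +kernel)
theorem inA_ad : InA (th [0, 6]) := inA_six_row inA_d' (g := [4, 6, 4]) (by decide +kernel)
theorem inA_ae : InA (th [0, 8]) := inA_six_row inA_d' (g := [4, 6, 4, 8, 6]) (by decide +kernel)
theorem inA_x : InA (th [4, 8]) := inA_six_row inA_d' (g := [4, 6, 4, 2, 0, 8, 6, 4, 2]) (by decide +kernel)
theorem inA_y : InA (th [11, 8, 10]) := inA_six_row inA_d' (g := [8, 6, 10]) (by decide +kernel)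
theorem inA_xy : InA (th [4, 8, 11, 8, 10]) :=
  inA_six_row inA_d' (g := [4, 6, 4, 2, 0, 8, 6, 4, 2, 10, 10, 10]) (by decide +kernel)
theorem inA_ax : InA (th [0, 4, 8]) :=
  inA_six_row inA_d' (g := [4, 2, 6, 8, 6, 4, 6, 4, 2, 0, 8, 6, 4, 2, 6]) (by decide +kernel)
theorem inA_ay : InA (th [0, 11, 8, 10]) :=
  inA_six_row inA_d' (g := [4, 6, 4, 8, 6, 10]) (by decide +kernel)
theorem inA_axy : InA (th [0, 4, 8, 11, 8, 10]) :=
  inA_six_row inA_d' (g := [4, 11, 8, 6, 4, 6, 11, 8, 6, 4, 11, 8, 6, 4, 10, 8, 6]) (by decide +kernel)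
theorem inA_rhsDu : InA (th rhsDu) := inA_six_row inA_d' (g := vConj) (by decide +kernel)
theorem inA_deed : InA (th [6, 8, 15, 6, 14]) := inA_of_eq inA_zero eq_Deed

theorem inA_split {w g m : List ℕ} (h : w = g ++ m ++ winv g) (hm : InA (th m)) : InA (th w) := by
  rw [h, th_append, th_append, th_winv]
  exact hm.conj _

theorem inA_iSq : InA (th iSq) := inA_split (g := iSq.take 8) (m := [4, 8]) (by decide +kernel) inA_x
theorem inA_iComm : InA (th iComm) := inA_split (g := iComm.take 15) (m := [0]) (by decide +kernel) inA_zero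
theorem inA_iDu : InA (th iDu) := inA_split (g := iDu.take 16) (m := [0]) (by decide +kernel) inA_zero
theorem inA_jSq : InA (th (iSq ++ [14])) := inA_of_eq inA_d eq_SqB
theorem inA_jComm : InA (th (iComm ++ [15, 11, 14, 10, 15, 11, 14, 10])) := inA_of_eq inA_d eq_CommB
theorem inA_jDu : InA (th (iDu ++ [6, 11, 11, 14, 10, 10, 6, 11, 11, 14, 10, 10])) := inA_of_eq inA_d eq_DuB

/-- The centraliser of the first generator is generated by six others. -/
theorem cent_eq : Subgroup.centralizer ({a0} : Set Spor.Th) =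
    Subgroup.closure {g | ∃ x ∈ ([0, 4, 6, 8, 10, 12, 14] : List ℕ), g = thL x} :=
  ThPres.Cent.CA_eq.1

theorem comm_gen {x : ℕ} (hx : x ∈ ([0, 4, 6, 8, 10, 12, 14] : List ℕ)) : thL x * a0 = a0 * thL x := by
  have h : thL x ∈ Subgroup.centralizer ({a0} : Set Spor.Th) := by
    rw [cent_eq]; exact Subgroup.subset_closure ⟨x, hx, rfl⟩
  exact Subgroup.mem_centralizer_singleton_iff.1 h

end CfsgLib.Sporadic.ThMult
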