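import Cfsg.Agent.Lib.Sporadic.ThMult.Lifts

/-!
# Pairs of commuting lifts whose product is a lift (owner: helper21)
-/

set_option autoImplicit false
set_option maxRecDepth 20000
set_option linter.unusedSectionVars false

namespace CfsgLib.Sporadic.ThMult

open Cfsg CfsgLib.Sporadic
open CfsgLib.Sporadic.ThPres (thL)

/-- The data of a normalised section. -/
structure Norm {Γ : Type*} [Group Γ] (σ : Γ →* Spor.Th) (p : ℕ) (S : Sect σ a0) : Prop where
  ext : Ext σ p
  norm : (S.C (th [4]) * S.C (th [6])) ^ 4 = S.A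

theorem exists_norm {Γ : Type*} [Group Γ] {σ : Γ →* Spor.Th} {p : ℕ} (E : Ext σ p) :
    ∃ S : Sect σ a0, Norm σ p S :=
  (exists_sect E).imp fun _ h => ⟨E, h⟩

theorem comm_two_gen {x y : ℕ} (hx : x ∈ ([0, 4, 6, 8, 10, 12, 14] : List ℕ))
    (hy : y ∈ ([0, 4, 6, 8, 10, 12, 14] : List ℕ)) : a0 * th [x, y] = th [x, y] * a0 := by
  rw [th_two]
  exact ((show Commute a0 (thL x) from (comm_gen hx).symm).mul_right (comm_gen hy).symm).eq

theorem comm_y : a0 * th [11, 8, 10] = th [11, 8, 10] * a0 := by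
  have hs : Commute a0 (thL 10) := (comm_gen (by decide)).symm
  rw [th_cons, th_two, show thL 11 = (thL 10)⁻¹ from ThPres.thL_flp 10]
  exact (hs.inv_right.mul_right ((show Commute a0 (thL 8) from (comm_gen (by decide)).symm).mul_right hs)).eq

theorem comm_of_sq {G : Type*} [Group G] {x y : G} (hx : x * x = 1) (hy : y * y = 1) (hxy : x * y * (x * y) = 1) :
    x * y = y * x := by
  rw [← inv_eq_of_mul_eq_one_right hxy, mul_inv_rev, inv_eq_of_mul_eq_one_right hx, inv_eq_of_mul_eq_one_right hy]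

variable {Γ : Type*} [Group Γ] {σ : Γ →* Spor.Th} {p : ℕ} {S : Sect σ a0}

/-- A pair moved by a word, read from two equalities of words. -/
theorem tri_word {u v u' v' g : List ℕ} (h : S.Tri (th u) (th v)) (hu : th (g ++ u) = th (u' ++ g))
    (hv : th (g ++ v) = th (v' ++ g)) : S.Tri (th u') (th v') := by
  rw [th_append, th_append] at hu hv
  exact S.tri_conj h hu hv

namespace Norm

variable (N : Norm σ p S)
include N

/-- The first kind of pair. -/
theorem tri_ad : S.Tri (th [0]) (th [6]) := by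
  refine ⟨inA_zero, inA_d, ?_, ?_⟩
  · rw [← th_append]; exact inA_ad
  set C := S.C (th [4])
  set D := S.C (th [6])
  have hC := S.C_inv inA_c
  have hD := S.C_inv inA_d
  have hmem : S.C (th [0]) * D ∈ Can S.A := by
    have e : S.C (th [0]) * D = C * D * C * D * (C * D * C)⁻¹ := by
      rw [show th [0] = a0 from th_one 0, S.C_self, ← N.norm, mul_inv_rev, mul_inv_rev, hC, hD]
      calc (C * D) ^ 4 * D = C * D * (C * D) * (C * D) * C * (D * D) := by
            rw [pow_succ, pow_succ, pow_succ, pow_one]; group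
        _ = C * D * (C * D) * (C * D) * C := by rw [S.C_sq inA_d, mul_one]
        _ = C * D * C * D * (C * (D * C)) := by group
    rw [e]
    exact can_conj (S.C_spec inA_d).1 _
  have e := S.eq_C hmem
  rwa [map_mul, S.map_C inA_zero, S.map_C inA_d] at e

/-- The second kind of pair. -/
theorem tri_ac : S.Tri (th [0]) (th [4]) := by
  have hac : InA (th [0] * th [4]) := by rw [← th_append]; exact inA_ac
  have ha : th [0] = a0 := th_one 0
  have e2 : ∀ w : List ℕ, a0 * th w = th (0 :: w) := fun w => (th_cons 0 w).symm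
  refine N.ext.tri_two S (x := th [4, 8]) (y := th [11, 8, 10]) inA_zero inA_c hac
    (comm_two_gen (x := 4) (y := 8) (by decide) (by decide)) comm_y ?_ a0_sq ?_ ?_ ?_ (th gThree) ?_ ?_
  · exact comm_of_sq (inA_sq inA_x) (inA_sq inA_y) (inA_sq (by rw [← th_append]; exact inA_xy))
  · exact tri_word N.tri_ad eq_LineOneA eq_LineOneB
  · rw [e2]; exact tri_word N.tri_ad eq_LineTwoA eq_LineTwoB
  · rw [e2, e2]; exact tri_word N.tri_ad eq_LineFourA eq_LineFourB
  · rw [← th_append, ← th_append]; exact eq_LineThreeA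
  · rw [e2, ← th_append, ← th_append]; exact eq_LineThreeB

theorem tri_ae : S.Tri (th [0]) (th [8]) := by
  refine tri_word (g := [6, 8]) N.tri_ad ?_ (th_same (by decide +kernel))
  exact th_same (by decide +kernel)

theorem tri_e_es : S.Tri (th [8]) (th [11, 8, 10]) := tri_word N.tri_ac eq_EsA eq_EsB

theorem tri_e_x : S.Tri (th [8]) (th [3, 0, 4, 2]) := tri_word N.tri_ac eq_XuA eq_XuB

theorem tri_sq : S.Tri (th [0, 4]) (th (iSq ++ [14])) := tri_word N.tri_ad eq_SqA eq_SqB

theorem tri_du : S.Tri (th rhsDu) (th (iDu ++ [6, 11, 11, 14, 10, 10, 6, 11, 11, 14, 10, 10])) :=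
  tri_word N.tri_ad eq_DuA eq_DuB

theorem C_ac : S.C (th [0, 4]) = S.C (th [0]) * S.C (th [4]) := by
  rw [N.tri_ac.2.2.2, ← th_append]
  rfl

end Norm

end CfsgLib.Sporadic.ThMult
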