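import Mathlib.Tactic

set_option autoImplicit false
set_option maxRecDepth 20000

/-! Words for the multiplier of the Thompson group (generated; owner: helper21). -/

namespace CfsgLib.Sporadic.ThMult

/-- a word -/
def gD : List ℕ := [4, 6, 2, 15, 2, 12, 15, 9, 7, 1, 3, 15, 3]
/-- a word -/
def gOne : List ℕ := [3, 15, 1, 3, 15, 1, 3, 11, 7, 9]
/-- a word -/
def gTwo : List ℕ := [3, 15, 1, 3, 15, 1, 3, 12, 10, 7, 5, 7, 15, 7, 9, 5]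
/-- a word -/
def gThree : List ℕ := [6, 10, 4, 0, 8, 6, 14, 2, 15, 9, 5, 7, 3, 15, 1, 3, 12, 10, 14, 7]
/-- a word -/
def gFour : List ℕ := [13, 2, 14, 14, 14, 7, 3, 5, 7, 3, 5, 1, 3, 11, 14, 12, 10, 9, 7, 15]
/-- a word -/
def gEs : List ℕ := [13, 8, 6, 8, 2, 4, 6, 2, 8, 15, 3, 15, 7, 1, 3, 15, 3, 12, 11, 9, 7, 14, 9, 7]
/-- a word -/
def gXu : List ℕ := [13, 8, 6, 8, 2, 4, 6, 2, 8, 15, 3, 15, 7, 1, 3, 15, 3, 15, 7]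
/-- a word -/
def gSq : List ℕ := [7, 5, 7, 3, 5, 1, 3, 10, 7, 15, 7, 9, 11, 7, 14, 11, 9]
/-- a word -/
def gComm : List ℕ := [7, 5, 7, 3, 5, 1, 3, 7, 15, 11, 7, 14, 11, 7, 14, 9]
/-- a word -/
def gDu : List ℕ := [10, 10, 12, 12, 0, 14, 10, 9, 7, 3, 5, 1, 3, 9, 7, 14, 11, 9, 7, 15, 9, 11, 9]
/-- a word -/
def gDeed : List ℕ := [15, 4, 0, 2, 14, 2, 6, 14, 1, 3, 14, 9, 7, 5, 3]
/-- a word -/
def iSq : List ℕ := [7, 5, 7, 3, 5, 1, 3, 15, 4, 8, 14, 2, 0, 4, 2, 6, 4, 6]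
/-- a word -/
def iComm : List ℕ := [12, 2, 4, 6, 10, 0, 15, 3, 14, 3, 15, 7, 5, 1, 3, 0, 2, 0, 4, 6, 14, 2, 15, 2, 14, 1, 11, 7, 5, 3, 13]
/-- a word -/
def iDu : List ℕ := [8, 6, 2, 13, 11, 13, 15, 8, 15, 7, 3, 5, 7, 3, 15, 3, 0, 2, 14, 2, 6, 4, 2, 6, 14, 9, 14, 12, 10, 12, 3, 7, 9]
/-- a word -/
def rhsDu : List ℕ := [0, 4, 7, 4, 6, 10, 9, 7, 4, 6, 8, 11, 11, 11, 9, 7, 4, 6, 8, 10, 10]
/-- a word -/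
def vConj : List ℕ := [5, 7, 9, 11, 11, 7, 3, 5, 7, 9, 1, 3]

end CfsgLib.Sporadic.ThMult
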